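import Cfsg.Agent.GH.Comp
import Cfsg.Agent.Walter.Cover_m3
import Cfsg.Agent.ThreePrime.AutQuot
import Cfsg.Agent.Lib.ProductSet
import Cfsg.Agent.Intrinsic.Cen
import Cfsg.Agent.GH.Defs
import Cfsg.Agent.SignalizersComponents.CoprimeBasic
import Cfsg.Agent.TwoFusion.PSL3Inv
import Cfsg.Agent.ClassicalGeometry.AutPSL.Main
import Cfsg.Agent.Lib.FastPerm
import Cfsg.Agent.FastGrp
import Cfsg.Agent.Prune
set_option linter.all false

section
prune_inst 0x7ffdbcfbbff8bfffffff7fffffdfdffdf9b85ffffffff9cbffe169ff0f9f436fc9c5fbad8fe450ff9ef6629491b87853ff7eee7fea6bdc7ffffd5ff45ffbee1ff5f7bd2c51deacb41ffc6fffebf07f8e7f3fffffffffffffffffffffffffffffffffffffffff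

-- part: GH/L2Frame
section
prune_inst 0x42000004400000000000002000020046800000000630001c9200f060208036220002701088004101812a2002000000000080050001000000000000000000020802812000100a000200001003007180c00000000000000000000000000000000000000000
set_option linter.all false
open scoped Cfsg.Agent.FastGrp

/-!
# GH-L2: the frame

`K` a 2-component of `H` with `Z(K/O(K))` of odd order, `T` a Sylow 2-subgroup of `H` normalising `K`.

* `fix K`: the subgroup of the elements `a` with `Fixes a K`;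
* `act K : N(K) →* MulAut (STop K)` with kernel `fix K`;
* `Frame H K T`; `D = T ⊓ K` is a Sylow 2-subgroup of `K`, `Q = T ⊓ fix K`, `[Q, D] = 1`, `Q ⊓ D = 1`, both are
  normal in `T`; `T / Q` acts faithfully on `STop K`, `D` is isomorphic to a Sylow 2-subgroup of `STop K`;
* elements of `T` acting as inner automorphisms are in `Q D`;
* fixed points of 2-subgroups lift (`exists_fixed`), 2-components of `C_K(P)`.
-/

set_option autoImplicit false
set_option linter.unusedSectionVars false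

open Cfsg Subgroup
open scoped commutatorElement
open Cfsg.Agent.SignalizersComponents
open Cfsg.Agent.SignalizersComponents.IntrinsicBasic (cj mem_cj)
open Cfsg.Agent.Intrinsic.Basic Cfsg.Agent.GH.Defs Cfsg.Agent.GH.Comp
open Cfsg.Agent.Walter.SylowIn

namespace Cfsg.Agent.GH.L2Frame

section action

variable {G : Type*} [Group G]

theorem map_oddCore {A : Type*} [Group A] (α : MulAut A) :
    (oddCore A).map (α : A ≃* A).toMonoidHom = oddCore A :=
  characteristic_iff_map_eq.1 (Lib.Cores.pPrimeCore_characteristic (G := A) 2) α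

/-- The automorphism induced on `A / O(A)`. -/
def coreAut (A : Type*) [Group A] : MulAut A →* MulAut (A ⧸ oddCore A) where
  toFun α := QuotientGroup.congr (oddCore A) (oddCore A) α (map_oddCore α)
  map_one' := by
    ext x
    obtain ⟨y, rfl⟩ := QuotientGroup.mk_surjective x
    rfl
  map_mul' α β := by
    ext x
    obtain ⟨y, rfl⟩ := QuotientGroup.mk_surjective x
    rfl

/-- The action of the normaliser on `K / O(K)`. -/
def actBar (K : Subgroup G) : normalizer (K : Set G) →* MulAut (Bar K) :=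
  (coreAut ↥K).comp (normalizerMonoidHom K)

/-- The action of the normaliser on the simple group `STop K`. -/
def act (K : Subgroup G) : normalizer (K : Set G) →* MulAut (STop K) :=
  (ThreePrime.AutQuot.autQuot (Bar K)).comp (actBar K)

theorem conj_mem {K : Subgroup G} {a : G} (ha : a ∈ normalizer (K : Set G)) {k : G} (hk : k ∈ K) :
    a * k * a⁻¹ ∈ K := (mem_normalizer_iff.1 ha k).1 hk

theorem actBar_apply {K : Subgroup G} {a : G} (ha : a ∈ normalizer (K : Set G)) (k : K) :
    actBar K ⟨a, ha⟩ (QuotientGroup.mk k) = QuotientGroup.mk ⟨a * k * a⁻¹, conj_mem ha k.2⟩ := rfl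

theorem act_apply {K : Subgroup G} {a : G} (ha : a ∈ normalizer (K : Set G)) (k : K) :
    act K ⟨a, ha⟩ (topMap K k) = topMap K ⟨a * k * a⁻¹, conj_mem ha k.2⟩ := rfl

/-- Elements of `K` act as inner automorphisms. -/
theorem act_of_mem {K : Subgroup G} (k : K) :
    act K ⟨k, le_normalizer k.2⟩ = MulAut.conj (topMap K k) := by
  ext x
  obtain ⟨y, rfl⟩ := topMap_surjective K x
  rw [act_apply, MulAut.conj_apply, ← map_inv, ← map_mul, ← map_mul]
  rfl

theorem mk_eq_one_iff {K : Subgroup G} {k : G} (hk : k ∈ K) :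
    (QuotientGroup.mk ⟨k, hk⟩ : Bar K) = 1 ↔ k ∈ core K := by
  rw [QuotientGroup.eq_one_iff]
  constructor
  · intro h
    exact ⟨_, h, rfl⟩
  · rintro ⟨y, hy, hyk⟩
    have : (⟨k, hk⟩ : K) = y := Subtype.ext hyk.symm
    rw [this]
    exact hy

theorem actBar_eq_one_iff {K : Subgroup G} {a : G} (ha : a ∈ normalizer (K : Set G)) :
    actBar K ⟨a, ha⟩ = 1 ↔ Fixes a K := by
  constructor
  · intro h
    refine ⟨ha, fun y hy => ?_⟩
    have h1 : actBar K ⟨a, ha⟩ (QuotientGroup.mk ⟨y, hy⟩) = QuotientGroup.mk ⟨y, hy⟩ := by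
      rw [h]; rfl
    rw [actBar_apply] at h1
    have h2 : (⟨a * y * a⁻¹, conj_mem ha hy⟩ : K) * (⟨y, hy⟩ : K)⁻¹ ∈ oddCore ↥K := by
      rw [← QuotientGroup.eq_one_iff, QuotientGroup.mk_mul, h1, QuotientGroup.mk_inv,
        mul_inv_cancel]
    exact ⟨_, h2, rfl⟩
  · rintro ⟨-, h⟩
    ext x
    obtain ⟨y, rfl⟩ := QuotientGroup.mk_surjective x
    rw [actBar_apply]
    change _ = (QuotientGroup.mk y : Bar K)
    obtain ⟨z, hz, hz'⟩ := h y y.2
    rw [← mul_inv_eq_one, ← QuotientGroup.mk_inv, ← QuotientGroup.mk_mul, QuotientGroup.eq_one_iff]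
    have : (⟨a * y * a⁻¹, conj_mem ha y.2⟩ : K) * y⁻¹ = z := Subtype.ext hz'.symm
    rw [this]
    exact hz

/-- `act K a = 1` iff `a` fixes `K`. -/
theorem act_eq_one_iff {K : Subgroup G} (hq : IsQuasisimple (Bar K)) {a : G}
    (ha : a ∈ normalizer (K : Set G)) : act K ⟨a, ha⟩ = 1 ↔ Fixes a K := by
  rw [← actBar_eq_one_iff ha]
  constructor
  · intro h
    exact ThreePrime.AutQuot.eq_one_of_autQuot_eq_one hq.1 h
  · intro h
    change ThreePrime.AutQuot.autQuot (Bar K) (actBar K ⟨a, ha⟩) = 1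
    rw [h, map_one]

/-- The elements which normalise `K` and centralise `K / O(K)`. -/
def fix (K : Subgroup G) : Subgroup G := (actBar K).ker.map (normalizer (K : Set G)).subtype

theorem mem_fix {K : Subgroup G} {a : G} : a ∈ fix K ↔ Fixes a K := by
  constructor
  · rintro ⟨b, hb, rfl⟩
    exact (actBar_eq_one_iff b.2).1 hb
  · intro h
    exact ⟨⟨a, h.1⟩, (actBar_eq_one_iff h.1).2 h, rfl⟩

theorem fix_le_normalizer (K : Subgroup G) : fix K ≤ normalizer (K : Set G) := map_subtype_le _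

theorem conj_mem_fix {K : Subgroup G} {a b : G} (ha : a ∈ normalizer (K : Set G))
    (hb : b ∈ fix K) : a * b * a⁻¹ ∈ fix K := by
  have hb1 : Fixes b K := mem_fix.1 hb
  have h0 : a * b * a⁻¹ ∈ normalizer (K : Set G) := mul_mem (mul_mem ha hb1.1) (inv_mem ha)
  rw [mem_fix, ← actBar_eq_one_iff h0]
  have h1 : (⟨a * b * a⁻¹, h0⟩ : normalizer (K : Set G)) = ⟨a, ha⟩ * ⟨b, hb1.1⟩ * ⟨a, ha⟩⁻¹ := rfl
  rw [h1, map_mul, map_mul, map_inv, (actBar_eq_one_iff hb1.1).2 hb1, mul_one, mul_inv_cancel]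

end action

section elementary

variable {G : Type*} [Group G]

/-- A `p`-element normalising a Sylow `p`-subgroup is in it. -/
theorem mem_sylow {p : ℕ} (S : Sylow p G) {x : G} (hx : x ∈ normalizer ((S : Subgroup G) : Set G))
    {n : ℕ} (hn : x ^ p ^ n = 1) : x ∈ (S : Subgroup G) := by
  have h1 : IsPGroup p (zpowers x) := by
    rintro ⟨y, hy⟩
    obtain ⟨k, rfl⟩ := mem_zpowers_iff.1 hy
    refine ⟨n, Subtype.ext ?_⟩
    change (x ^ k) ^ p ^ n = 1
    rw [← zpow_natCast, ← zpow_mul, mul_comm, zpow_mul, zpow_natCast, hn, one_zpow]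
  have h2 : IsPGroup p ↥(zpowers x ⊔ (S : Subgroup G)) :=
    IsPGroup.to_sup_of_normal_right' h1 S.2 (by rw [zpowers_le]; exact hx)
  have h3 := S.3 h2 le_sup_right
  rw [← h3]
  exact mem_sup_left (mem_zpowers x)

theorem card_sup_mul {H N : Subgroup G} (h : H ≤ normalizer (N : Set G)) :
    Nat.card ↥(H ⊔ N) * Nat.card ↥(H ⊓ N) = Nat.card H * Nat.card N := by
  rw [← Cfsg.Agent.Lib.ProductSet.card_mul_card_inf H N]
  congr 1
  exact Nat.card_congr (Equiv.setCongr (Subgroup.coe_mul_of_left_le_normalizer_right H N h))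

theorem relIndex_sup [Finite G] {T K : Subgroup G} (h : T ≤ normalizer (K : Set G)) :
    (T ⊓ K).relIndex K = T.relIndex (T ⊔ K) := by
  have e1 := card_sup_mul h
  have e2 := relIndex_mul_relIndex (⊥ : Subgroup G) T (T ⊔ K) bot_le le_sup_left
  have e3 := relIndex_mul_relIndex (⊥ : Subgroup G) (T ⊓ K) K bot_le inf_le_right
  rw [relIndex_bot_left, relIndex_bot_left] at e2 e3
  have h1 : 0 < Nat.card ↥(T ⊓ K) := Nat.card_pos
  have h2 : 0 < Nat.card T := Nat.card_pos
  rw [← e2, ← e3] at e1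
  have h3 : (Nat.card T * Nat.card ↥(T ⊓ K)) * T.relIndex (T ⊔ K) =
      (Nat.card T * Nat.card ↥(T ⊓ K)) * (T ⊓ K).relIndex K := by
    linarith
  exact (Nat.eq_of_mul_eq_mul_left (Nat.mul_pos h2 h1) h3).symm

end elementary

variable {G : Type*} [Group G] [Finite G]

theorem center_top {H K : Subgroup G} (h : IsComp H K) : center (STop K) = ⊥ := by
  have h1 := top_simple h
  rcases (inferInstance : (center (STop K)).Normal).eq_bot_or_eq_top with h2 | h2
  · exact h2
  · exfalso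
    refine top_nonComm h ⟨⟨fun a b => ?_⟩⟩
    exact (mem_center_iff.1 (h2 ▸ mem_top b : b ∈ center (STop K)) a)

theorem conj_injective {H K : Subgroup G} (h : IsComp H K) :
    Function.Injective (MulAut.conj : STop K →* MulAut (STop K)) := by
  rw [← MonoidHom.ker_eq_bot_iff, eq_bot_iff, ← center_top h]
  intro x hx
  rw [mem_center_iff]
  intro g
  have h1 : MulAut.conj x g = g := by
    rw [MonoidHom.mem_ker.1 hx]; rfl
  rw [MulAut.conj_apply, mul_inv_eq_iff_eq_mul] at h1
  exact h1.symm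

omit [Finite G] in
/-- The kernel of `K → STop K` consists of the elements of `K` fixing `K`. -/
theorem mem_ker_iff {K : Subgroup G} {k : K} : k ∈ (topMap K).ker ↔ (k : G) ∈ fix K := by
  rw [mem_ker_topMap, mem_fix]
  exact ⟨fun h => ⟨le_normalizer k.2, h⟩, fun h => h.2⟩

/-- The kernel of `K → STop K` has odd order if the centre is odd. -/
theorem odd_card_ker {K : Subgroup G} (hodd : ¬ EvenCenter K) : Odd (Nat.card (topMap K).ker) := by
  let f : (topMap K).ker →* center (Bar K) :=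
    { toFun := fun x => ⟨QuotientGroup.mk' (oddCore ↥K) x, by
        have := x.2
        rw [MonoidHom.mem_ker] at this
        exact (QuotientGroup.eq_one_iff _).1 this⟩
      map_one' := by
        apply Subtype.ext
        simp
      map_mul' := by
        intro x y
        apply Subtype.ext
        simp }
  have h0 : f.ker.map (topMap K).ker.subtype ≤ oddCore ↥K := by
    rintro _ ⟨x, hx, rfl⟩
    have h2 : f x = 1 := hx
    exact (QuotientGroup.eq_one_iff _).1 (congrArg Subtype.val h2)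
  have h1 : Nat.card f.ker ∣ Nat.card (oddCore ↥K) := by
    have := card_dvd_of_le h0
    rwa [card_map_of_injective (topMap K).ker.subtype_injective] at this
  have h2 : Nat.card f.range ∣ Nat.card (center (Bar K)) := card_subgroup_dvd_card _
  have h3 : Nat.card (topMap K).ker = Nat.card f.ker * Nat.card f.range := by
    rw [← f.ker.card_mul_index, index_ker]
  have h4 : Odd (Nat.card (oddCore ↥K)) :=
    Nat.coprime_two_right.1 (Lib.Cores.pPrimeCore_coprime (G := ↥K) 2)
  have h5 : Odd (Nat.card (center (Bar K))) := Nat.not_even_iff_odd.1 hodd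
  rw [h3]
  exact (h4.of_dvd_nat h1).mul (h5.of_dvd_nat h2)

/-! ### fixed points lift -/

/-- The conjugation action of `P ≤ N(K)` on a `P`-invariant fibre of `K → STop K`. -/
theorem exists_fixed {K : Subgroup G} (hodd : ¬ EvenCenter K) {P : Subgroup G}
    (hP : IsPGroup 2 P) (hPK : P ≤ normalizer (K : Set G)) {l : STop K}
    (hl : ∀ p (hp : p ∈ P), act K ⟨p, hPK hp⟩ l = l) :
    ∃ k : K, (∀ p ∈ P, p * k = k * p) ∧ topMap K k = l := by
  have : Fact (Nat.Prime 2) := ⟨Nat.prime_two⟩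
  let X := {k : K // topMap K k = l}
  let _ : MulAction P X :=
    { smul := fun p k => ⟨⟨p * k.1 * (p : G)⁻¹, conj_mem (hPK p.2) k.1.2⟩, by
        rw [← act_apply (hPK p.2), k.2]
        exact hl p p.2⟩
      one_smul := fun k => by
        apply Subtype.ext
        apply Subtype.ext
        change ((1 : P) : G) * k.1 * ((1 : P) : G)⁻¹ = k.1
        simp
      mul_smul := fun p r k => by
        apply Subtype.ext
        apply Subtype.ext
        change ((p * r : P) : G) * k.1 * ((p * r : P) : G)⁻¹ =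
          (p : G) * ((r : G) * k.1 * (r : G)⁻¹) * (p : G)⁻¹
        push_cast
        group }
  obtain ⟨k₀, hk₀⟩ := topMap_surjective K l
  have hcard : Nat.card X = Nat.card (topMap K).ker := by
    refine Nat.card_congr ⟨fun k => ⟨k₀⁻¹ * k.1, ?_⟩, fun k => ⟨k₀ * k.1, ?_⟩, ?_, ?_⟩
    · rw [MonoidHom.mem_ker, map_mul, map_inv, hk₀, k.2, inv_mul_cancel]
    · rw [map_mul, hk₀, MonoidHom.mem_ker.1 k.2, mul_one]
    · intro k
      apply Subtype.ext
      simp
    · intro k
      apply Subtype.ext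
      simp
  have h2 : ¬ 2 ∣ Nat.card X := by
    rw [hcard]
    exact (odd_card_ker hodd).not_two_dvd_nat
  obtain ⟨k, hk⟩ := hP.nonempty_fixed_point_of_prime_not_dvd_card X h2
  refine ⟨k.1, fun p hp => ?_, k.2⟩
  have h3 := congrArg (fun y : X => ((y.1 : K) : G)) (hk ⟨p, hp⟩)
  have h4 : p * (k.1 : G) * p⁻¹ = k.1 := h3
  rwa [mul_inv_eq_iff_eq_mul] at h4

/-- `T` is a Sylow 2-subgroup of `H` and normalises the 2-component `K` of `H`, `Z(K/O(K))` is odd. -/
structure Frame (H K T : Subgroup G) : Prop where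
  comp : IsComp H K
  odd : ¬ EvenCenter K
  norm : T ≤ normalizer (K : Set G)
  syl : SylIn 2 T H

namespace Frame

variable {H K T : Subgroup G}

omit [Finite G] in
theorem le (h : Frame H K T) : T ≤ H := h.syl.le

omit [Finite G] in
theorem two (h : Frame H K T) : IsPGroup 2 T := h.syl.isPGroup

omit [Finite G] in
/-- A 2-subgroup of `H` containing `T` is `T`. -/
theorem eq_of_le (h : Frame H K T) {P : Subgroup G} (hP : IsPGroup 2 P) (hTP : T ≤ P)
    (hPH : P ≤ H) : P = T := h.syl.eq_of_le hTP hPH hP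

omit [Finite G] in
theorem exists_pow (h : Frame H K T) {t : G} (ht : t ∈ T) : ∃ n : ℕ, t ^ 2 ^ n = 1 := by
  obtain ⟨n, hn⟩ := h.two ⟨t, ht⟩
  exact ⟨n, by simpa using congrArg Subtype.val hn⟩

/-- `D = T ⊓ K` is a Sylow 2-subgroup of `K`. -/
theorem sylD (h : Frame H K T) : SylIn 2 (T ⊓ K) K := by
  have : Fact (Nat.Prime 2) := ⟨Nat.prime_two⟩
  refine sylIn_of inf_le_right (h.two.to_le inf_le_left) ?_
  rw [relIndex_sup h.norm]
  exact (h.syl.of_le le_sup_left (sup_le h.le h.comp.le)).not_dvd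

/-- `Q ⊓ D = 1`. -/
theorem eq_one (h : Frame H K T) {d : G} (hd : d ∈ T ⊓ K) (hf : d ∈ fix K) : d = 1 := by
  obtain ⟨n, hn⟩ := h.exists_pow hd.1
  exact eq_one_of_odd h.comp h.odd (mem_fix.1 hf) ⟨d, hd.2, by
    rw [inv_mul_cancel]; exact one_mem _⟩ hn

theorem inf_eq_bot (h : Frame H K T) : (T ⊓ K) ⊓ (T ⊓ fix K) = ⊥ := by
  rw [eq_bot_iff]
  rintro d ⟨hd, -, hf⟩
  exact mem_bot.2 (h.eq_one hd hf)

/-- `D` is normal in `T`. -/
theorem conj_mem_D (h : Frame H K T) {t d : G} (ht : t ∈ T) (hd : d ∈ T ⊓ K) :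
    t * d * t⁻¹ ∈ T ⊓ K :=
  ⟨T.mul_mem (T.mul_mem ht hd.1) (T.inv_mem ht), conj_mem (h.norm ht) hd.2⟩

/-- `Q` is normal in `T`. -/
theorem conj_mem_Q (h : Frame H K T) {t y : G} (ht : t ∈ T) (hy : y ∈ T ⊓ fix K) :
    t * y * t⁻¹ ∈ T ⊓ fix K :=
  ⟨T.mul_mem (T.mul_mem ht hy.1) (T.inv_mem ht), conj_mem_fix (h.norm ht) hy.2⟩

/-- `[Q, D] = 1`. -/
theorem comm (h : Frame H K T) {y d : G} (hy : y ∈ T ⊓ fix K) (hd : d ∈ T ⊓ K) :
    y * d = d * y := by
  have h1 : ⁅y, d⁆ ∈ core K := (mem_fix.1 hy.2).2 d hd.2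
  have h2 : ⁅y, d⁆ ∈ T := T.mul_mem (T.mul_mem (T.mul_mem hy.1 hd.1) (T.inv_mem hy.1))
    (T.inv_mem hd.1)
  obtain ⟨n, hn⟩ := h.exists_pow h2
  have h3 := eq_one_of_mem_core h1 hn
  exact commutatorElement_eq_one_iff_mul_comm.1 h3

/-- The map `D → STop K` is injective. -/
theorem eq_of_top_eq (h : Frame H K T) {a b : G} (ha : a ∈ T ⊓ K) (hb : b ∈ T ⊓ K)
    (hab : topMap K ⟨a, ha.2⟩ = topMap K ⟨b, hb.2⟩) : a = b := by
  have h1 : (⟨a, ha.2⟩ : K)⁻¹ * ⟨b, hb.2⟩ ∈ (topMap K).ker := by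
    rw [MonoidHom.mem_ker, map_mul, map_inv, hab, inv_mul_cancel]
  have h2 : a⁻¹ * b = 1 := h.eq_one (mul_mem (inv_mem ha) hb) (mem_ker_iff.1 h1)
  exact (inv_mul_eq_one.1 h2)

/-- The map `D → STop K`. -/
def dTop (_ : Frame H K T) : ↥(T ⊓ K) →* STop K := (topMap K).comp (inclusion inf_le_right)

theorem dTop_injective (h : Frame H K T) : Function.Injective h.dTop := by
  intro a b hab
  exact Subtype.ext (h.eq_of_top_eq a.2 b.2 hab)

/-- The action of `T` on `STop K`. -/
def rho (h : Frame H K T) : T →* MulAut (STop K) := (act K).comp (inclusion h.norm)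

theorem rho_eq_one_iff (h : Frame H K T) (t : T) : h.rho t = 1 ↔ (t : G) ∈ fix K := by
  rw [mem_fix]
  exact act_eq_one_iff (quasisimple h.comp) (h.norm t.2)

theorem rho_dTop (h : Frame H K T) (t : T) (d : ↥(T ⊓ K)) :
    h.rho t (h.dTop d) = h.dTop ⟨t * d * (t : G)⁻¹, h.conj_mem_D t.2 d.2⟩ := rfl

/-- `D` acts by inner automorphisms. -/
theorem rho_of_mem (h : Frame H K T) (d : ↥(T ⊓ K)) :
    h.rho ⟨d, d.2.1⟩ = MulAut.conj (h.dTop d) := act_of_mem ⟨(d : G), d.2.2⟩

/-- `t ∈ T` commutes with `d ∈ D` iff `rho t` fixes the image of `d`. -/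
theorem comm_iff (h : Frame H K T) (t : T) (d : ↥(T ⊓ K)) :
    (t : G) * d = d * t ↔ h.rho t (h.dTop d) = h.dTop d := by
  rw [h.rho_dTop, h.dTop_injective.eq_iff, Subtype.ext_iff]
  exact mul_inv_eq_iff_eq_mul.symm

/-- `D` as a Sylow 2-subgroup of `K`. -/
theorem exists_sylow_K (h : Frame H K T) : ∃ P : Sylow 2 K, (P : Subgroup K) = (T ⊓ K).subgroupOf K := by
  obtain ⟨P, hP⟩ := h.sylD
  exact ⟨P, (SylIn.subgroupOf_eq hP).symm⟩

/-- The image of `D` is a Sylow 2-subgroup of `STop K`. -/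
theorem exists_sylow (h : Frame H K T) : ∃ S : Sylow 2 (STop K), (S : Subgroup (STop K)) = h.dTop.range := by
  have : Fact (Nat.Prime 2) := ⟨Nat.prime_two⟩
  obtain ⟨P, hP⟩ := h.exists_sylow_K
  refine ⟨P.mapSurjective (topMap_surjective K), ?_⟩
  rw [Sylow.coe_mapSurjective, hP]
  ext x
  constructor
  · rintro ⟨y, hy, rfl⟩
    exact ⟨⟨y, mem_subgroupOf.1 hy⟩, rfl⟩
  · rintro ⟨y, rfl⟩
    exact ⟨⟨y, y.2.2⟩, mem_subgroupOf.2 y.2, rfl⟩

/-- An element of `T` acting as an inner automorphism is in `Q D`. -/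
theorem exists_mul (h : Frame H K T) {t : T} {l : STop K} (hl : h.rho t = MulAut.conj l) :
    ∃ y ∈ T ⊓ fix K, ∃ a : ↥(T ⊓ K), (t : G) = y * a ∧ h.dTop a = l := by
  obtain ⟨S, hS⟩ := h.exists_sylow
  have h1 : l ∈ normalizer ((S : Subgroup (STop K)) : Set (STop K)) := by
    rw [mem_normalizer_iff]
    intro x
    have h3 : ∀ (u : T) (x : STop K), x ∈ (S : Subgroup (STop K)) →
        h.rho u x ∈ (S : Subgroup (STop K)) := by
      intro u x hx
      rw [hS] at hx ⊢
      obtain ⟨d, rfl⟩ := hx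
      rw [h.rho_dTop]
      exact ⟨_, rfl⟩
    have h4 : ∀ x, l * x * l⁻¹ = h.rho t x := by
      intro x
      rw [hl, MulAut.conj_apply]
    rw [h4]
    constructor
    · exact h3 t x
    · intro hx
      have h5 := h3 t⁻¹ _ hx
      rwa [map_inv, ← MulAut.mul_apply, inv_mul_cancel, MulAut.one_apply] at h5
  obtain ⟨n, hn⟩ := h.exists_pow t.2
  have h2 : l ^ 2 ^ n = 1 := by
    apply conj_injective h.comp
    rw [map_pow, ← hl, ← map_pow]
    have : t ^ 2 ^ n = 1 := Subtype.ext hn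
    rw [this, map_one, map_one]
  have h3 := mem_sylow S h1 h2
  rw [hS] at h3
  obtain ⟨a, rfl⟩ := h3
  refine ⟨t * (a : G)⁻¹, ⟨T.mul_mem t.2 (T.inv_mem a.2.1), ?_⟩, a, by group, rfl⟩
  have h4 : h.rho (t * ⟨a, a.2.1⟩⁻¹) = 1 := by
    rw [map_mul, map_inv, hl, h.rho_of_mem, mul_inv_cancel]
  exact (h.rho_eq_one_iff _).1 h4

end Frame

/-! ### existence, conjugation -/

/-- `P` a 2-subgroup of `H`, `K` normal in `H`: there is a frame with `P ≤ T`. -/
theorem exists_frame {H K P : Subgroup G} (hK : IsComp H K) (hodd : ¬ EvenCenter K)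
    (hn : H ≤ normalizer (K : Set G)) (hP : IsPGroup 2 P) (hPH : P ≤ H) :
    ∃ T : Subgroup G, P ≤ T ∧ Frame H K T := by
  obtain ⟨T, hT, hPT⟩ := exists_sylIn_ge hPH hP
  exact ⟨T, hPT, hK, hodd, hT.le.trans hn, hT⟩

theorem evenCenter_congr {K L : Subgroup G} (e : Bar K ≃* Bar L) : EvenCenter K ↔ EvenCenter L := by
  unfold EvenCenter
  rw [Nat.card_congr (Subgroup.centerCongr e).toEquiv]

theorem evenCenter_cj {K : Subgroup G} (g : G) : EvenCenter (cj g K) ↔ EvenCenter K :=
  (evenCenter_congr (cjQuot g K)).symm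

theorem mem_normalizer_cj {K : Subgroup G} {t : G} (ht : t ∈ normalizer (K : Set G)) (g : G) :
    g * t * g⁻¹ ∈ normalizer (cj g K : Set G) := by
  rw [mem_normalizer_iff]
  intro x
  rw [mem_cj, mem_cj]
  have h1 : g⁻¹ * (g * t * g⁻¹ * x * (g * t * g⁻¹)⁻¹) * g = t * (g⁻¹ * x * g) * t⁻¹ := by group
  rw [h1]
  exact mem_normalizer_iff.1 ht _

theorem Frame.cj {H K T : Subgroup G} (h : Frame H K T) (g : G) :
    Frame (cj g H) (cj g K) (cj g T) := by
  have : Fact (Nat.Prime 2) := ⟨Nat.prime_two⟩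
  refine ⟨h.comp.cj g, fun h1 => h.odd ((evenCenter_cj g).1 h1), ?_, h.syl.map_conj g⟩
  rintro _ ⟨t, ht, rfl⟩
  exact mem_normalizer_cj (h.norm ht) g

/-- `fix` of a conjugate. -/
theorem fix_cj {K : Subgroup G} (g : G) : fix (cj g K) = cj g (fix K) := by
  ext x
  rw [mem_cj, mem_fix, mem_fix]
  constructor
  · intro h
    have h1 := h.cj g⁻¹
    rw [IntrinsicBasic.cj_inv_cj, inv_inv] at h1
    exact h1
  · intro h
    have h1 := h.cj g
    have h2 : g * (g⁻¹ * x * g) * g⁻¹ = x := by group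
    rwa [h2] at h1

end Cfsg.Agent.GH.L2Frame
end

-- part: GH/XSet
section
set_option linter.all false
open scoped Cfsg.Agent.FastGrp

/-!
# `XSet`: invariant sets of involutions whose centralizers have exactly one 2-component

* `cenW X W = O^{2'}(C_X(W))`, `isComp_cenW`: a 2-subgroup `W` fixing (normalizing `X`, centralizing
  `X / O(X)`) a 2-component `X` of `H`: `cenW X W` is a 2-component of `H ∩ C(W)` covering `X / O(X)`.
* `eq_of_sup`: two 2-components of `H` covering the same `X / O(X)` are equal.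
* `KK y = L_{2'}(C(y))`; `XBase X`: `X` a conjugation invariant set of involutions, `KK y` is a 2-component
  (hence the only one) of `C(y)` for `y ∈ X`, `X` closed under `y ↦` involutions of `C(y)` fixing `KK y`;
  `XSet X N`: moreover `|KK y / O(KK y)| = N`.
* `XBase.cen_eq`: `y, t ∈ X` commuting and fixing each other: `cen (KK y) t = cen (KK t) y`, the common
  2-component.  `XSet.fixes_symm`: `t` fixes `KK y` iff `y` fixes `KK t`.
-/

set_option autoImplicit false
set_option linter.dupNamespace false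

open Cfsg Subgroup
open Cfsg.Agent.SignalizersComponents Cfsg.Agent.Lib
open Cfsg.Agent.SignalizersComponents.IntrinsicBasic
open Cfsg.Agent.SignalizersComponents.PLayerAut
open Cfsg.Agent.Intrinsic.Basic Cfsg.Agent.Intrinsic.Cen
open Cfsg.Agent.GH.Defs
open scoped commutatorElement

namespace Cfsg.Agent.GH.XSet

variable {G : Type*} [Group G]

/-! ### the elements fixing `K` -/

theorem fixes_one (K : Subgroup G) : Fixes 1 K := by
  rw [fixes_iff_conj]
  exact ⟨one_mem _, fun y _ => by simp⟩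

theorem fixes_mul {K : Subgroup G} {a b : G} (ha : Fixes a K) (hb : Fixes b K) :
    Fixes (a * b) K := by
  rw [fixes_iff_conj] at ha hb ⊢
  refine ⟨mul_mem ha.1 hb.1, fun y hy => ?_⟩
  have h1 := hb.2 y hy
  have hy' : b * y * b⁻¹ ∈ K := (mem_normalizer_iff.mp hb.1 y).mp hy
  have h2 := ha.2 _ hy'
  have h3 : y⁻¹ * (a * b * y * (a * b)⁻¹) =
      y⁻¹ * (b * y * b⁻¹) * ((b * y * b⁻¹)⁻¹ * (a * (b * y * b⁻¹) * a⁻¹)) := by group
  rw [h3]
  exact mul_mem h1 h2

theorem fixes_inv {K : Subgroup G} {a : G} (ha : Fixes a K) : Fixes a⁻¹ K := by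
  rw [fixes_iff_conj] at ha ⊢
  refine ⟨inv_mem ha.1, fun y hy => ?_⟩
  have hy' : a⁻¹ * y * a⁻¹⁻¹ ∈ K := (mem_normalizer_iff.mp (inv_mem ha.1) y).mp hy
  have h2 := inv_mem (ha.2 _ hy')
  have h3 : y⁻¹ * (a⁻¹ * y * a⁻¹⁻¹) =
      ((a⁻¹ * y * a⁻¹⁻¹)⁻¹ * (a * (a⁻¹ * y * a⁻¹⁻¹) * a⁻¹))⁻¹ := by group
  rw [h3]
  exact h2

/-- The subgroup of the elements fixing `K`. -/
def fixer (K : Subgroup G) : Subgroup G where
  carrier := {a | Fixes a K}
  one_mem' := fixes_one K
  mul_mem' := fixes_mul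
  inv_mem' := fixes_inv

theorem mem_fixer {K : Subgroup G} {a : G} : a ∈ fixer K ↔ Fixes a K := Iff.rfl

theorem core_le_fixer (K : Subgroup G) : core K ≤ fixer K := by
  intro c hc
  rw [mem_fixer, fixes_iff_conj]
  refine ⟨le_normalizer (core_le K hc), fun y hy => ?_⟩
  have h1 : y⁻¹ * (c * y * c⁻¹) = (y⁻¹ * c * y⁻¹⁻¹) * c⁻¹ := by group
  rw [h1]
  exact mul_mem (conj_mem_core (le_normalizer (K.inv_mem hy)) hc) (inv_mem hc)

theorem fixes_of_comm {K : Subgroup G} {a : G} (h : ∀ y ∈ K, Commute a y) : Fixes a K := by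
  rw [fixes_iff_conj]
  have h1 : ∀ y ∈ K, a * y * a⁻¹ = y := fun y hy => by
    rw [(h y hy).eq]; group
  refine ⟨?_, fun y hy => ?_⟩
  · rw [mem_normalizer_iff_cj]
    ext x
    rw [mem_cj]
    constructor
    · intro hx
      have h2 := h1 _ hx
      have h3 : a * (a⁻¹ * x * a) * a⁻¹ = x := by group
      rw [h3] at h2
      rw [← h2] at hx
      exact hx
    · intro hx
      have h2 : a⁻¹ * x * a = x := by
        have h3 := h1 x hx
        calc a⁻¹ * x * a = a⁻¹ * (a * x * a⁻¹) * a := by rw [h3]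
          _ = x := by group
      rwa [h2]
  · rw [h1 y hy, inv_mul_cancel]
    exact one_mem _

/-! ### covering -/

section cover

variable [Finite G]

theorem sup_trans {J L X : Subgroup G} (h1 : J ⊔ core L = L) (h2 : L ⊔ core X = X) :
    J ⊔ core X = X := by
  have hJ : J ≤ L := by rw [← h1]; exact le_sup_left
  have hL : L ≤ X := by rw [← h2]; exact le_sup_left
  refine le_antisymm (sup_le (hJ.trans hL) (core_le X)) ?_
  calc X = (J ⊔ core L) ⊔ core X := by rw [h1, h2]
    _ ≤ J ⊔ core X := sup_le (sup_le le_sup_left ((core_le_of_sup h2).trans le_sup_right))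
        le_sup_right

/-- `J ≤ L ≤ X`, `J` covers `X / O(X)` and `L` covers: then `J` covers `L / O(L)`. -/
theorem sup_mid {J L X : Subgroup G} (hJL : J ≤ L) (h1 : J ⊔ core X = X) (h2 : L ⊔ core X = X) :
    J ⊔ core L = L := by
  have hL : L ≤ X := by rw [← h2]; exact le_sup_left
  refine sup_of_exists hJL fun l hl => ?_
  obtain ⟨j, hj, hc⟩ := exists_mul_of_sup h1 (hL hl)
  refine ⟨j, hj, ?_⟩
  rw [core_of_sup h2]
  exact ⟨L.mul_mem (L.inv_mem (hJL hj)) hl, hc⟩

/-- Two 2-components of `H` covering the same `X / O(X)` are equal. -/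
theorem eq_of_sup {H H' L L' X : Subgroup G} (hX : IsComp H' X) (hL : IsComp H L)
    (hL' : IsComp H L') (h1 : L ⊔ core X = X) (h2 : L' ⊔ core X = X) : L = L' := by
  by_contra hne
  have hLX : L ≤ X := by rw [← h1]; exact le_sup_left
  have hLX' : L' ≤ X := by rw [← h2]; exact le_sup_left
  have h3 : L' ≤ fixer X := by
    intro a ha
    have h4 : Fixes a L := hL.fixes_of_mem hL' hne ha
    exact (fixes_iff_of_sup h1 h4.1 (le_normalizer (hLX' ha))).mp h4
  have h5 : X ≤ fixer X := by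
    calc X = L' ⊔ core X := h2.symm
      _ ≤ fixer X := sup_le h3 (core_le_fixer X)
  exact hX.not_fixes fun a ha => h5 ha

omit [Finite G] in
theorem pElem_pElem (M : Subgroup G) :
    PComponents.pElem 2 (PComponents.pElem 2 M) = PComponents.pElem 2 M := by
  refine le_antisymm (PComponents.pElem_le _) ((Subgroup.closure_le _).mpr ?_)
  rintro y ⟨hy, n, hn⟩
  exact PComponents.mem_pElem (n := n) (PComponents.mem_pElem (n := n) hy hn) hn

/-- If `M ≤ X` covers `X / O(X)`, `X` a 2-component, then `O^{2'}(M)` is a 2-component of `M` and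
covers `X / O(X)`. -/
theorem isComp_pElem {H X M : Subgroup G} (hX : IsComp H X) (h : M ⊔ core X = X) :
    IsComp M (PComponents.pElem 2 M) ∧ PComponents.pElem 2 M ⊔ core X = X := by
  have : Fact (Nat.Prime 2) := ⟨Nat.prime_two⟩
  have hMX : M ≤ X := by rw [← h]; exact le_sup_left
  have hsup : PComponents.pElem 2 M ⊔ core X = X := by
    refine le_antisymm (sup_le ((PComponents.pElem_le _).trans hMX) (core_le X)) ?_
    rw [← hX.pElem_eq]
    refine (Subgroup.closure_le _).mpr ?_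
    rintro y ⟨hy, n, hn⟩
    rw [hX.pElem_eq]
    obtain ⟨m, hm, hc⟩ := exists_mul_of_sup h hy
    obtain ⟨a, r, hr, hmr⟩ := Nat.exists_eq_two_pow_mul_odd (n := orderOf m) (orderOf_pos m).ne'
    obtain ⟨k, hk1, hk2⟩ := Nat.chineseRemainder (Nat.Coprime.pow_right n
      (Nat.coprime_two_right.mpr hr)) 0 1
    have hrk : r ∣ k := (Nat.modEq_zero_iff_dvd).mp hk1
    have hmk : (m ^ k) ^ 2 ^ a = 1 := by
      obtain ⟨j, rfl⟩ := hrk
      rw [← pow_mul]
      apply orderOf_dvd_iff_pow_eq_one.mp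
      rw [hmr]
      exact ⟨j, by ring⟩
    have hyk : y ^ k = y := by
      have h1 : orderOf y ∣ 2 ^ n := orderOf_dvd_of_pow_eq_one hn
      have h2 : k ≡ 1 [MOD orderOf y] := hk2.of_dvd h1
      calc y ^ k = y ^ 1 := pow_eq_pow_iff_modEq.mpr h2
        _ = y := pow_one y
    have hq : (m ^ k)⁻¹ * y ∈ core X := by
      have h1 : (QuotientGroup.mk' (oddCore ↥X)) ⟨m, hMX hm⟩ =
          (QuotientGroup.mk' (oddCore ↥X)) ⟨y, hy⟩ := mk_eq_mk_iff.mpr hc
      have h2 : (QuotientGroup.mk' (oddCore ↥X)) ⟨m ^ k, X.pow_mem (hMX hm) k⟩ =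
          (QuotientGroup.mk' (oddCore ↥X)) ⟨y ^ k, X.pow_mem hy k⟩ := by
        have e1 : (⟨m ^ k, X.pow_mem (hMX hm) k⟩ : X) = (⟨m, hMX hm⟩ : X) ^ k := rfl
        have e2 : (⟨y ^ k, X.pow_mem hy k⟩ : X) = (⟨y, hy⟩ : X) ^ k := rfl
        rw [e1, e2, map_pow, map_pow, h1]
      have h3 := mk_eq_mk_iff.mp h2
      change (m ^ k)⁻¹ * y ^ k ∈ core X at h3
      rwa [hyk] at h3
    have h4 : y = m ^ k * ((m ^ k)⁻¹ * y) := by group
    rw [h4]
    exact mul_mem (mem_sup_left (PComponents.mem_pElem (n := a) (M.pow_mem hm k) hmk))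
      (mem_sup_right hq)
  refine ⟨?_, hsup⟩
  rw [isComp_iff]
  refine ⟨PComponents.pElem_le _, (PComponents.pElem_normal_subgroupOf M).isSubnormal, ?_,
    pElem_pElem M⟩
  obtain ⟨e, -⟩ := exists_quotEquiv hsup
  exact isQuasisimple_of_equiv e.symm (isComp_iff.mp hX).2.2.1

end cover

/-! ### the 2-component of the centralizer of a 2-group -/

/-- `O^{2'}(C_X(W))` -/
def cenW (X W : Subgroup G) : Subgroup G := PComponents.pElem 2 (X ⊓ centralizer (W : Set G))

theorem cenW_le (X W : Subgroup G) : cenW X W ≤ X := (PComponents.pElem_le _).trans inf_le_left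

theorem cenW_le_centralizer (X W : Subgroup G) : cenW X W ≤ centralizer (W : Set G) :=
  (PComponents.pElem_le _).trans inf_le_right

section cenW

variable [Finite G]

/-- `W` a 2-group fixing `X`: `C_X(W)` covers `X / O(X)`. -/
theorem inf_centralizer_sup {X W : Subgroup G} (hW : IsPGroup 2 W) (hf : ∀ w ∈ W, Fixes w X) :
    (X ⊓ centralizer (W : Set G)) ⊔ core X = X := by
  have : Fact (Nat.Prime 2) := ⟨Nat.prime_two⟩
  refine sup_of_exists inf_le_left fun x hx => ?_
  obtain ⟨d, hd, hcomm⟩ := CoprimeBasic.exists_fixed_in_coset W hW (core X)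
    ((Nat.coprime_comm.mp (coprime_card_core X)).symm |> fun h => by
      intro h2
      have h3 := Nat.Coprime.eq_one_of_dvd (Nat.coprime_comm.mp h) h2
      omega)
    (fun a ha d hd => conj_mem_core (hf a ha).1 hd) x
    (fun a ha => (fixes_iff_conj.mp (hf a ha)).2 x hx)
  refine ⟨x * d, ⟨X.mul_mem hx (core_le X hd), ?_⟩, ?_⟩
  · exact mem_centralizer_iff.mpr hcomm
  · have h1 : (x * d)⁻¹ * x = d⁻¹ := by group
    rw [h1]
    exact inv_mem hd

theorem isComp_cenW {H X W : Subgroup G} (hX : IsComp H X) (hW : IsPGroup 2 W)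
    (hf : ∀ w ∈ W, Fixes w X) :
    IsComp (H ⊓ centralizer (W : Set G)) (cenW X W) ∧ cenW X W ⊔ core X = X := by
  obtain ⟨h1, h2⟩ := isComp_pElem hX (inf_centralizer_sup hW hf)
  refine ⟨?_, h2⟩
  refine h1.extend (inf_le_inf_right _ hX.le) ?_
  have h3 := hX.2.1.comap (inclusion (inf_le_left : H ⊓ centralizer (W : Set G) ≤ H))
  convert h3 using 1
  ext ⟨y, hy⟩
  simp only [mem_subgroupOf, mem_comap, mem_inf]
  exact ⟨fun h => h.1, fun h => ⟨h, hy.2⟩⟩

/-- `Y ∩ C(W)` as the centralizer in `Y` of `W`. -/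
def centEquiv (Y W : Subgroup G) (hW : W ≤ Y) :
    ↥(Y ⊓ centralizer (W : Set G)) ≃*
      ↥(centralizer ((W.subgroupOf Y : Subgroup ↥Y) : Set ↥Y)) where
  toFun m := ⟨⟨m, m.2.1⟩, by
    rw [mem_centralizer_iff]
    rintro ⟨w, hw⟩ hw'
    apply Subtype.ext
    exact mem_centralizer_iff.mp m.2.2 w hw'⟩
  invFun m := ⟨m, m.1.2, by
    change ((m : ↥Y) : G) ∈ centralizer (W : Set G)
    rw [mem_centralizer_iff]
    intro w hw
    have h1 := mem_centralizer_iff.mp m.2 ⟨w, hW hw⟩ hw
    exact congrArg Subtype.val h1⟩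
  left_inv m := rfl
  right_inv m := rfl
  map_mul' _ _ := rfl

/-- L-balance for a 2-subgroup `W ≤ H`. -/
theorem isComp_le_L2_of_le {H W J : Subgroup G} (hWH : W ≤ H) (hW : IsPGroup 2 W)
    (hJ : IsComp (H ⊓ centralizer (W : Set G)) J) : J ≤ L2 H := by
  have hT : IsPGroup 2 ↥(W.subgroupOf H) := hW.comap_of_injective H.subtype H.subtype_injective
  have h1 := Cfsg.Agent.S1301.result (X := ↥H) (W.subgroupOf H) hT
  have h2 := isPComponent_map_equiv 2 (centEquiv H W hWH) hJ.2
  intro a ha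
  have ha' : (⟨a, hJ.le ha⟩ : ↥(H ⊓ centralizer (W : Set G))) ∈
      J.subgroupOf (H ⊓ centralizer (W : Set G)) := ha
  have h3 : (centEquiv H W hWH) ⟨a, hJ.le ha⟩ ∈
      pLayer 2 ↥(centralizer ((W.subgroupOf H : Subgroup ↥H) : Set ↥H)) :=
    (le_sSup (show _ ∈ {K | IsPComponent 2 K} from h2)) ⟨_, ha', rfl⟩
  have h4 := h1 ⟨_, h3, rfl⟩
  exact ⟨⟨a, (hJ.le ha).1⟩, h4, rfl⟩

end cenW

/-! ### the sets `X` -/

/-- The 2-layer of the centralizer of `y`. -/
def KK (y : G) : Subgroup G := L2 (centralizer ({y} : Set G))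

/-- A conjugation invariant set of involutions `y` such that `KK y` is a 2-component of `C(y)`, closed
under passing to involutions of `C(y)` fixing `KK y`. -/
structure XBase (X : Set G) : Prop where
  inv : ∀ y ∈ X, orderOf y = 2
  comp : ∀ y ∈ X, IsComp (centralizer ({y} : Set G)) (KK y)
  conj : ∀ y ∈ X, ∀ g : G, g * y * g⁻¹ ∈ X
  closed : ∀ y ∈ X, ∀ u : G, orderOf u = 2 → Commute u y → Fixes u (KK y) → u ∈ X

/-- Moreover `|KK y / O(KK y)| = N` for all `y ∈ X`. -/
structure XSet (X : Set G) (N : ℕ) : Prop extends XBase X where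
  card : ∀ y ∈ X, Nat.card (Bar (KK y)) = N

namespace XBase

variable {X : Set G}

theorem sq (h : XBase X) {y : G} (hy : y ∈ X) : y * y = 1 := by
  rw [← pow_two, ← h.inv y hy, pow_orderOf_eq_one]

theorem ne_one (h : XBase X) {y : G} (hy : y ∈ X) : y ≠ 1 := by
  rintro rfl
  have := h.inv 1 hy
  simp at this

theorem comm_of_mem (h : XBase X) {y k : G} (hy : y ∈ X) (hk : k ∈ KK y) : Commute k y :=
  mem_centralizer_singleton_iff.mp ((h.comp y hy).le hk)

variable [Finite G]

/-- `KK y` is the only 2-component of `C(y)`. -/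
theorem unique (h : XBase X) {y : G} (hy : y ∈ X) {M : Subgroup G}
    (hM : IsComp (centralizer ({y} : Set G)) M) : M = KK y :=
  hM.eq_of_le (h.comp y hy) hM.le_L2

theorem cj_KK (h : XBase X) {y : G} (hy : y ∈ X) (g : G) : cj g (KK y) = KK (g * y * g⁻¹) := by
  have h1 := (h.comp y hy).cj g
  rw [cj_centralizer] at h1
  exact h.unique (h.conj y hy g) h1

theorem mem_normalizer (h : XBase X) {y g : G} (hy : y ∈ X) (hg : Commute g y) :
    g ∈ normalizer (KK y : Set G) := by
  rw [mem_normalizer_iff_cj, h.cj_KK hy]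
  congr 1
  rw [hg.eq]
  group

omit [Finite G] in
theorem fixes_self (h : XBase X) {y : G} (hy : y ∈ X) : Fixes y (KK y) :=
  fixes_of_comm fun _ hk => (h.comm_of_mem hy hk).symm

/-- Commuting elements fixing each other: the 2-components of `C(y) ∩ C(t)` in `KK y`, `KK t` agree. -/
theorem cen_le_cen (h : XBase X) {y t : G} (hy : y ∈ X) (ht : t ∈ X) (hyt : Commute y t)
    (hf : Fixes t (KK y)) : cen (KK y) t ≤ KK t := by
  have h1 := (isComp_cen (h.comp y hy) (mem_centralizer_singleton_iff.mpr hyt.symm.eq) (h.sq ht)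
    hf).1
  rw [inf_comm] at h1
  exact isComp_le_L2 (mem_centralizer_singleton_iff.mpr hyt.eq) (h.sq hy) h1

theorem cen_eq (h : XBase X) {y t : G} (hy : y ∈ X) (ht : t ∈ X) (hyt : Commute y t)
    (hf : Fixes t (KK y)) (hf' : Fixes y (KK t)) : cen (KK y) t = cen (KK t) y := by
  have key : ∀ {y t : G}, y ∈ X → t ∈ X → Commute y t → Fixes t (KK y) →
      cen (KK y) t ≤ cen (KK t) y := by
    intro y t hy ht hyt hf
    refine (Subgroup.closure_le _).mpr ?_
    rintro k ⟨⟨hk1, hk2⟩, n, hn⟩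
    have h1 : k ∈ cen (KK y) t := mem_cen hk1 (mem_centralizer_singleton_iff.mp hk2) hn
    exact mem_cen (h.cen_le_cen hy ht hyt hf h1) (h.comm_of_mem hy hk1).eq hn
  exact le_antisymm (key hy ht hyt hf) (key ht hy hyt.symm hf')

theorem cen_sup (h : XBase X) {y t : G} (hy : y ∈ X) (ht : t ∈ X) (hyt : Commute y t)
    (hf : Fixes t (KK y)) : cen (KK y) t ⊔ core (KK y) = KK y :=
  (isComp_cen (h.comp y hy) (mem_centralizer_singleton_iff.mpr hyt.symm.eq) (h.sq ht) hf).2

/-- A 2-component `L` (generated by 2-elements) covering `KK y` and centralized by `t` covers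
`KK t`. -/
theorem sup_of_commute (h : XBase X) {y t : G} (hy : y ∈ X) (ht : t ∈ X) (hyt : Commute y t)
    (hf : Fixes t (KK y)) (hf' : Fixes y (KK t)) {L : Subgroup G}
    (hL : PComponents.pElem 2 L = L) (hcov : L ⊔ core (KK y) = KK y)
    (hLt : L ≤ centralizer ({t} : Set G)) : L ⊔ core (KK t) = KK t := by
  have hLy : L ≤ KK y := by
    have h1 : L ≤ L ⊔ core (KK y) := le_sup_left
    rwa [hcov] at h1
  have h1 : L ≤ cen (KK y) t := by
    rw [← hL]
    exact PComponents.pElem_mono (le_inf hLy hLt)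
  have h2 := sup_mid h1 hcov (h.cen_sup hy ht hyt hf)
  refine sup_trans h2 ?_
  rw [h.cen_eq hy ht hyt hf hf']
  exact h.cen_sup ht hy hyt.symm hf'

/-! ### 2-groups `W` containing `y ∈ X` and fixing `KK y` -/

omit [Finite G] in
theorem centralizer_le {y : G} {W : Subgroup G} (hyW : y ∈ W) :
    centralizer (W : Set G) ≤ centralizer ({y} : Set G) :=
  Subgroup.centralizer_le (Set.singleton_subset_iff.mpr hyW)

/-- `cenW (KK y) W` is a 2-component of `C(W)` and covers `KK y / O(KK y)`. -/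
theorem isComp_cenW (h : XBase X) {y : G} (hy : y ∈ X) {W : Subgroup G} (hW : IsPGroup 2 W)
    (hyW : y ∈ W) (hf : ∀ w ∈ W, Fixes w (KK y)) :
    IsComp (centralizer (W : Set G)) (cenW (KK y) W) ∧ cenW (KK y) W ⊔ core (KK y) = KK y := by
  have h1 := XSet.isComp_cenW (h.comp y hy) hW hf
  rwa [inf_of_le_right (centralizer_le hyW)] at h1

/-- ... and covers `KK t / O(KK t)` for `t ∈ X ∩ W` commuting with `y`. -/
theorem cenW_sup (h : XBase X) {y : G} (hy : y ∈ X) {W : Subgroup G} (hW : IsPGroup 2 W)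
    (hf : ∀ w ∈ W, Fixes w (KK y)) {t : G} (ht : t ∈ X) (htW : t ∈ W) (hyt : Commute y t)
    (hf' : Fixes y (KK t)) : cenW (KK y) W ⊔ core (KK t) = KK t := by
  refine h.sup_of_commute hy ht hyt (hf t htW) hf' (pElem_pElem _)
    (XSet.isComp_cenW (h.comp y hy) hW hf).2 ?_
  exact (cenW_le_centralizer _ _).trans (centralizer_le htW)

/-- `cenW (KK y) W` is the only 2-component of `C(W)`, if `y ∈ Z(W)`. -/
theorem eq_cenW (h : XBase X) {y : G} (hy : y ∈ X) {W : Subgroup G} (hW : IsPGroup 2 W)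
    (hyW : y ∈ W) (hc : ∀ w ∈ W, Commute w y) (hf : ∀ w ∈ W, Fixes w (KK y)) {M : Subgroup G}
    (hM : IsComp (centralizer (W : Set G)) M) : M = cenW (KK y) W := by
  obtain ⟨h1, h2⟩ := h.isComp_cenW hy hW hyW hf
  have hWy : W ≤ centralizer ({y} : Set G) := fun w hw =>
    mem_centralizer_singleton_iff.mpr (hc w hw).eq
  have hMK : M ≤ KK y := by
    refine isComp_le_L2_of_le hWy hW ?_
    rwa [inf_of_le_right (centralizer_le hyW)]
  by_contra hne
  have h3 : M ≤ fixer (KK y) := by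
    intro a ha
    have h4 : Fixes a (cenW (KK y) W) := h1.fixes_of_mem hM (Ne.symm hne) ha
    exact (fixes_iff_of_sup h2 h4.1 (le_normalizer (hMK ha))).mp h4
  have h5 : M ≤ core (KK y) := by
    calc M = ⁅M, M⁆ := hM.perfect.symm
      _ ≤ core (KK y) := by
        rw [commutator_le]
        intro a ha b hb
        exact (h3 ha).2 b (hMK hb)
  exact hM.not_odd (odd_card_core (KK y)) h5

/-- **The common 2-component.**  `W` a commutative 2-group `≠ 1` all whose involutions are in `X`, fixing all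
`KK y`, `y ∈ X ∩ W`: `C(W)` has exactly one 2-component `L`, and `L` covers `KK y / O(KK y)` for all
`y ∈ X ∩ W`. -/
theorem exists_common (h : XBase X) {W : Subgroup G} (hW : IsPGroup 2 W)
    (hc : ∀ v ∈ W, ∀ w ∈ W, Commute v w) (hne : ∃ y ∈ X, y ∈ W)
    (hf : ∀ y ∈ X, y ∈ W → ∀ w ∈ W, Fixes w (KK y)) :
    ∃ L, IsComp (centralizer (W : Set G)) L ∧
      (∀ M, IsComp (centralizer (W : Set G)) M → M = L) ∧
      ∀ y ∈ X, y ∈ W → cenW (KK y) W = L ∧ L ≤ KK y ∧ L ⊔ core (KK y) = KK y := by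
  obtain ⟨y, hy, hyW⟩ := hne
  obtain ⟨h1, h2⟩ := h.isComp_cenW hy hW hyW (hf y hy hyW)
  refine ⟨cenW (KK y) W, h1, fun M hM => h.eq_cenW hy hW hyW (fun w hw => hc w hw y hyW)
    (hf y hy hyW) hM, fun t ht htW => ?_⟩
  obtain ⟨h3, h4⟩ := h.isComp_cenW ht hW htW (hf t ht htW)
  have h5 := h.eq_cenW hy hW hyW (fun w hw => hc w hw y hyW) (hf y hy hyW) h3
  refine ⟨h5, ?_, ?_⟩
  · rw [← h5]; exact cenW_le _ _
  · rw [← h5]; exact h4

end XBase

namespace XSet

variable {X : Set G} {N : ℕ} [Finite G]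

/-- `t` fixes `KK y` iff `y` fixes `KK t`. -/
theorem fixes_symm (h : XSet X N) {y t : G} (hy : y ∈ X) (ht : t ∈ X) (hyt : Commute y t)
    (hf : Fixes t (KK y)) : Fixes y (KK t) := by
  obtain ⟨J, hJ⟩ : ∃ J, J = cen (KK y) t := ⟨_, rfl⟩
  have hcomp := isComp_cen (h.comp y hy) (mem_centralizer_singleton_iff.mpr hyt.symm.eq)
    (h.toXBase.sq ht) hf
  rw [← hJ] at hcomp
  have hJt : J ≤ KK t := hJ ▸ h.toXBase.cen_le_cen hy ht hyt hf
  have hJy : J ≤ KK y := hJ ▸ cen_le _ _
  -- the orders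
  have hcard : Nat.card (Bar J) = N := by
    obtain ⟨e, -⟩ := exists_quotEquiv hcomp.2
    rw [← h.card y hy]
    exact Nat.card_congr e.toEquiv
  -- `J ∩ O(KK t) ≤ O(J)`
  have hcore : J ⊓ core (KK t) ≤ core J := by
    refine le_core inf_le_left ?_ (Odd.of_dvd_nat (odd_card_core (KK t)) (card_dvd_of_le inf_le_right))
    intro j hj
    have e2 : j ∈ normalizer (core (KK t) : Set G) := le_normalizer_core (KK t) (hJt hj)
    rw [mem_normalizer_iff_cj] at e2 ⊢
    rw [cj_inf, e2, cj_eq_self_of_mem hj]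
  let f : J →* Bar (KK t) := (QuotientGroup.mk' (oddCore ↥(KK t))).comp (inclusion hJt)
  have hker : f.ker ≤ oddCore ↥J := by
    intro j hj
    rw [MonoidHom.mem_ker] at hj
    have h1 : (inclusion hJt j) ∈ oddCore ↥(KK t) := (QuotientGroup.eq_one_iff _).mp hj
    have h2 : (j : G) ∈ core (KK t) := (mem_core_iff (hJt j.2)).mpr h1
    exact (mem_core_iff j.2).mp (hcore ⟨j.2, h2⟩)
  have hrange : f.range = ⊤ := by
    apply Subgroup.eq_top_of_card_eq
    apply le_antisymm (Subgroup.card_le_card_group _)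
    rw [h.card t ht, ← hcard]
    have h1 : Nat.card f.range = f.ker.index := by
      rw [Subgroup.index_ker]
    rw [h1]
    have h2 : (oddCore ↥J).index ∣ f.ker.index := Subgroup.index_dvd_of_le hker
    have h3 : Nat.card (Bar J) = (oddCore ↥J).index := rfl
    rw [h3]
    exact Nat.le_of_dvd (Nat.pos_of_ne_zero Subgroup.index_ne_zero_of_finite) h2
  have hsup : J ⊔ core (KK t) = KK t := by
    refine sup_of_exists hJt fun x hx => ?_
    have h1 : (QuotientGroup.mk' (oddCore ↥(KK t))) ⟨x, hx⟩ ∈ f.range := by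
      rw [hrange]; exact mem_top _
    obtain ⟨j, hj⟩ := h1
    exact ⟨j, j.2, mk_eq_mk_iff.mp hj⟩
  have hyJ : Fixes y J := fixes_of_comm fun k hk => (h.toXBase.comm_of_mem hy (hJy hk)).symm
  exact (fixes_iff_of_sup hsup hyJ.1 (h.toXBase.mem_normalizer ht hyt)).mp hyJ

end XSet

end Cfsg.Agent.GH.XSet
end

-- part: GH/L3S/Defs
section
set_option linter.all false
open scoped Cfsg.Agent.FastGrp

/-!
# GH-L3, SD case (`K / O(K) = M₁₁`, `PSL₃(3)`): vocabulary

* `SDF L`: the facts on the simple group `L = M₁₁`, `PSL₃(3)` used in the whole branch;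
* `World X N`: `X` = the involutions `y` of `G` such that `KK y / O` is such a group.
-/

set_option autoImplicit false

open Cfsg Subgroup
open Cfsg.Agent.Intrinsic.Basic
open Cfsg.Agent.GH.Defs Cfsg.Agent.GH.XSet

namespace Cfsg.Agent.GH.L3S.Defs

/-- Inner automorphisms. -/
abbrev Inn {L : Type*} [Group L] (α : MulAut L) : Prop := ∃ l : L, α = MulAut.conj l

/-- The fixed points of an automorphism. -/
def Fix {L : Type*} [Group L] (α : MulAut L) : Subgroup L where
  carrier := {y | α y = y}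
  one_mem' := map_one α
  mul_mem' {a b} ha hb := by
    change α (a * b) = a * b
    rw [map_mul, show α a = a from ha, show α b = b from hb]
  inv_mem' {a} ha := by
    change α a⁻¹ = a⁻¹
    rw [map_inv, show α a = a from ha]

/-- Facts on `L = M₁₁`, `PSL₃(3)`.  For `M₁₁` all automorphisms are inner, so that `out`, `s4`, `outConj`,
`outCent` are vacuous. -/
structure SDF (L : Type*) [Group L] : Prop where
  /-- one class of involutions -/
  conj : ∀ x y : L, orderOf x = 2 → orderOf y = 2 → IsConj x y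
  /-- the centralizer of an involution is `GL₂(3)` -/
  gl : ∀ x : L, orderOf x = 2 →
    Nonempty (↥(centralizer ({x} : Set L)) ≃* GL (Fin 2) (ZMod 3))
  /-- an automorphism centralizing the centralizer of an involution `x` is `1` or conjugation by `x` -/
  cent : ∀ x : L, orderOf x = 2 → ∀ α : MulAut L, (∀ y, y * x = x * y → α y = y) →
    α = 1 ∨ α = MulAut.conj x
  /-- `|Out L| ≤ 2` -/
  out : ∀ α β : MulAut L, ¬ Inn α → ¬ Inn β → Inn (α * β)
  /-- the centralizer of an outer involution is `S₄` -/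
  s4 : ∀ α : MulAut L, α * α = 1 → ¬ Inn α → Nonempty (↥(Fix α) ≃* Equiv.Perm (Fin 4))
  /-- the outer involutions are conjugate -/
  outConj : ∀ α β : MulAut L, α * α = 1 → β * β = 1 → ¬ Inn α → ¬ Inn β →
    ∃ l : L, β = MulAut.conj l * α * (MulAut.conj l)⁻¹
  /-- an automorphism centralizing the centralizer of an outer involution `α` is `1` or `α` -/
  outCent : ∀ α : MulAut L, α * α = 1 → ¬ Inn α → ∀ β : MulAut L, (∀ y, α y = y → β y = y) →
    β = 1 ∨ β = α

/-- The setting of the branch: `X` is the set of involutions `y` of `G` with `KK y / O` of type `M₁₁`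
(resp. `PSL₃(3)`). -/
structure World {G : Type*} [Group G] (X : Set G) (N : ℕ) : Prop extends XSet X N where
  odd : ∀ y ∈ X, ¬ EvenCenter (KK y)
  sdf : ∀ y ∈ X, SDF (STop (KK y))
  rank : SectionalPRankLE 2 4 G

end Cfsg.Agent.GH.L3S.Defs
end

-- part: GH/L3S/ModelL33
section
prune_inst 0x2010440034000000000000000000006032000000000000000000000000c1000020050000b2200010800004440838000811080100422000000a000800011c00800000000200000000000000000000000000000000000000000000000000000000000000000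
set_option linter.all false
open scoped Cfsg.Agent.FastGrp

/-!
# GH-L3, SD case: `PSL₃(3)` satisfies `SDF`
-/

set_option autoImplicit false

open Matrix Subgroup
open Cfsg.Agent.GH.L3S.Defs
open Cfsg.Agent.TwoFusion.PSL3Inv
open Cfsg.Agent.ClassicalGeometry.AutPSL.Root
open Cfsg.Agent.ClassicalGeometry.AutPSL.Auto

namespace Cfsg.Agent.GH.L3S.ModelL33

/-! ### transport -/

section transport

variable {L L' : Type*} [Group L] [Group L']

theorem congr_apply' (e : L ≃* L') (α : MulAut L) (y : L') :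
    MulAut.congr e α y = e (α (e.symm y)) := rfl

theorem congr_conj (e : L ≃* L') (l : L) : MulAut.congr e (MulAut.conj l) = MulAut.conj (e l) := by
  apply MulEquiv.ext
  intro y
  rw [congr_apply', MulAut.conj_apply, MulAut.conj_apply, map_mul, map_mul, map_inv,
    e.apply_symm_apply]

theorem inn_congr (e : L ≃* L') (α : MulAut L) : Inn (MulAut.congr e α) ↔ Inn α := by
  constructor
  · rintro ⟨l, hl⟩
    refine ⟨e.symm l, ?_⟩
    apply (MulAut.congr e).injective
    rw [hl, congr_conj, e.apply_symm_apply]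
  · rintro ⟨l, rfl⟩
    exact ⟨e l, congr_conj e l⟩

theorem SDF.of_equiv (e : L ≃* L') (h : SDF L') : SDF L where
  conj x y hx hy := by
    have h1 := h.conj (e x) (e y) (by rwa [MulEquiv.orderOf_eq]) (by rwa [MulEquiv.orderOf_eq])
    have h2 := (e.symm : L' →* L).map_isConj h1
    simpa only [_root_.isConj_iff, _root_.MonoidHom.coe_coe, _root_.MulEquiv.symm_apply_apply] using h2
  gl x hx := by
    obtain ⟨f⟩ := h.gl (e x) (by rwa [MulEquiv.orderOf_eq])
    refine ⟨MulEquiv.trans ?_ f⟩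
    refine (e.subgroupMap (centralizer ({x} : Set L))).trans (MulEquiv.subgroupCongr ?_)
    ext y
    rw [mem_centralizer_singleton_iff]
    constructor
    · rintro ⟨w, hw, rfl⟩
      have hw' := mem_centralizer_singleton_iff.mp hw
      change e w * e x = e x * e w
      rw [← map_mul, hw', map_mul]
    · intro hy
      refine ⟨e.symm y, ?_, e.apply_symm_apply y⟩
      apply mem_centralizer_singleton_iff.mpr
      apply e.injective
      rw [map_mul, map_mul, e.apply_symm_apply, hy]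
  cent x hx α hα := by
    have h1 := h.cent (e x) (by rwa [MulEquiv.orderOf_eq]) (MulAut.congr e α) (fun y hy => by
      rw [congr_apply', hα, e.apply_symm_apply]
      apply e.injective
      rw [map_mul, map_mul, e.apply_symm_apply, hy])
    rcases h1 with h1 | h1
    · left
      apply (MulAut.congr e).injective
      rw [h1, map_one]
    · right
      apply (MulAut.congr e).injective
      rw [h1, congr_conj]
  out α β hα hβ := by
    rw [← inn_congr e, map_mul]
    exact h.out _ _ (by rwa [inn_congr]) (by rwa [inn_congr])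
  s4 α hα hn := by
    obtain ⟨f⟩ := h.s4 (MulAut.congr e α) (by rw [← map_mul, hα, map_one]) (by rwa [inn_congr])
    refine ⟨MulEquiv.trans ?_ f⟩
    refine (e.subgroupMap (_root_.Cfsg.Agent.GH.L3S.Defs.Fix α)).trans (MulEquiv.subgroupCongr ?_)
    ext y
    constructor
    · rintro ⟨w, hw, rfl⟩
      change e (α (e.symm (e w))) = e w
      rw [e.symm_apply_apply, show α w = w from hw]
    · intro hy
      refine ⟨e.symm y, ?_, e.apply_symm_apply y⟩
      change α (e.symm y) = e.symm y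
      apply e.injective
      rw [e.apply_symm_apply]
      exact hy
  outConj α β hα hβ hnα hnβ := by
    obtain ⟨l, hl⟩ := h.outConj (MulAut.congr e α) (MulAut.congr e β) (by rw [← map_mul, hα, map_one])
      (by rw [← map_mul, hβ, map_one]) (by rwa [inn_congr]) (by rwa [inn_congr])
    refine ⟨e.symm l, ?_⟩
    apply (MulAut.congr e).injective
    rw [hl, map_mul, map_mul, map_inv, congr_conj, e.apply_symm_apply]
  outCent α hα hn β hβ := by
    have h1 := h.outCent (MulAut.congr e α) (by rw [← map_mul, hα, map_one]) (by rwa [inn_congr])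
      (MulAut.congr e β) (fun y hy => by
        rw [congr_apply'] at hy ⊢
        have h2 : α (e.symm y) = e.symm y := by
          apply e.injective
          rw [hy, e.apply_symm_apply]
        rw [hβ _ h2, e.apply_symm_apply])
    rcases h1 with h1 | h1
    · left
      apply (MulAut.congr e).injective
      rw [h1, map_one]
    · right
      exact (MulAut.congr e).injective h1

end transport

/-! ### `SL₃(3)` -/

local instance : Fact (Nat.Prime 3) := ⟨Nat.prime_three⟩

/-- `SL₃(3)` -/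
abbrev S := Matrix.SpecialLinearGroup (Fin 3) (ZMod 3)

theorem two_ne : (2 : ZMod 3) ≠ 0 := by decide

theorem eq_one_of_center {P : S} (hP : ∀ g : S, P * g = g * P) : P = 1 := by
  have h1 : P ∈ Subgroup.center S := Subgroup.mem_center_iff.mpr fun g => (hP g).symm
  obtain ⟨r, hr, hrP⟩ := Matrix.SpecialLinearGroup.mem_center_iff.1 h1
  have h2 : ∀ r : ZMod 3, r ^ 3 = 1 → r = 1 := by decide
  have h3 := h2 r hr
  apply Subtype.ext
  rw [← hrP, h3, map_one]
  rfl

theorem pr_injective : Function.Injective (pr : S → _) := by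
  intro a b h
  have h1 : a⁻¹ * b ∈ Subgroup.center S := QuotientGroup.eq.mp h
  have h2 := eq_one_of_center fun g => (Subgroup.mem_center_iff.mp h1 g).symm
  exact (inv_mul_eq_one.mp (by exact h2))

theorem lift_injective : Function.Injective
    (lift : MulAut S →* MulAut (Matrix.ProjectiveSpecialLinearGroup (Fin 3) (ZMod 3))) := by
  intro a b h
  apply MulEquiv.ext
  intro g
  apply pr_injective
  rw [← lift_pr, h, lift_pr]

theorem sq_of_ne : ∀ d : ZMod 3, d ≠ 0 → d * d = 1 := by decide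

theorem det_smul_det (A : GL (Fin 3) (ZMod 3)) (d : ZMod 3)
    (hd : d = (A : Matrix (Fin 3) (Fin 3) (ZMod 3)).det) : (d • A.1).det = 1 := by
  have hd0 : d ≠ 0 := by
    rw [hd]
    exact ((Matrix.isUnit_iff_isUnit_det A.1).1 A.isUnit).ne_zero
  rw [det_smul, Fintype.card_fin, ← hd]
  have h2 : d ^ 3 * d = (d * d) * (d * d) := by
    simp only [pow_succ, pow_zero, one_mul, mul_assoc]
  rw [h2, sq_of_ne d hd0, one_mul]

theorem cj_mul_eq (A : GL (Fin 3) (ZMod 3)) (d : ZMod 3) (P : S) (hP : P.1 = d • A.1) (g : S) :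
    cj A g * P = P * g := by
  apply Subtype.ext
  rw [Matrix.SpecialLinearGroup.coe_mul, Matrix.SpecialLinearGroup.coe_mul, hP, coe_cj,
      Matrix.mul_smul, mul_assoc _ _ A.1, ← Units.val_mul, inv_mul_cancel, Units.val_one, mul_one,
      Matrix.smul_mul]

theorem exists_conj_eq_cj (A : GL (Fin 3) (ZMod 3)) : ∃ P : S, cj A = MulAut.conj P := by
  obtain ⟨P, hP⟩ : ∃ P : S, P.1 = ((A : Matrix (Fin 3) (Fin 3) (ZMod 3)).det) • A.1 :=
    ⟨⟨_, det_smul_det A _ rfl⟩, rfl⟩
  refine ⟨P, MulEquiv.ext fun g => ?_⟩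
  have h1 := cj_mul_eq A _ P hP g
  have h2 : cj A g = P * g * P⁻¹ := (eq_mul_inv_of_mul_eq h1 :)
  exact h2.trans (MulAut.conj_apply _ _).symm

theorem fld_eq_one (σ : ZMod 3 ≃+* ZMod 3) : (fld σ : MulAut S) = 1 := by
  apply MulEquiv.ext
  intro g
  apply Subtype.ext
  ext i j
  rw [coe_fld_apply]
  have h1 : (σ : ZMod 3 →+* ZMod 3) = RingHom.id _ := Subsingleton.elim _ _
  exact congrArg (fun f : ZMod 3 →+* ZMod 3 => f (g.1 i j)) h1

theorem aut_cases (α : MulAut S) :
    (∃ P : S, α = MulAut.conj P) ∨ ∃ P : S, α = MulAut.conj P * itr := by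
  rcases Cfsg.Agent.ClassicalGeometry.AutPSL.Main.surj_three 3 le_rfl (lift α) with
    ⟨A, σ, h⟩ | ⟨A, σ, h⟩
  · left
    obtain ⟨P, hP⟩ := exists_conj_eq_cj A
    refine ⟨P, ?_⟩
    rw [lift_injective h, fld_eq_one, mul_one, hP]
  · right
    obtain ⟨P, hP⟩ := exists_conj_eq_cj A
    refine ⟨P, ?_⟩
    rw [lift_injective h, fld_eq_one, mul_one, hP]

theorem itr_mul_conj (P : S) : (itr * MulAut.conj P : MulAut S) = MulAut.conj (itr P) * itr := by
  apply MulEquiv.ext
  intro g
  rw [MulAut.mul_apply, MulAut.mul_apply, MulAut.conj_apply, MulAut.conj_apply, map_mul, map_mul,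
    map_inv]

theorem not_inn_itr : ¬ Inn (itr : MulAut S) := by
  rintro ⟨P, hP⟩
  have h1 : ∀ g : S, (itr g : S).1.trace = g.1.trace := by
    intro g
    rw [hP, MulAut.conj_apply]
    change (P.1 * g.1 * (P⁻¹).1).trace = _
    rw [Matrix.trace_mul_comm, ← mul_assoc, ← Matrix.SpecialLinearGroup.coe_mul, inv_mul_cancel,
      Matrix.SpecialLinearGroup.coe_one, one_mul]
  have hdet : (!![0, 0, 1; 1, 0, -1; 0, 1, 0] : Matrix (Fin 3) (Fin 3) (ZMod 3)).det = 1 := by
    rw [Matrix.det_fin_three]; decide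
  have hdet' : (!![1, 1, 0; 0, 0, 1; 1, 0, 0] : Matrix (Fin 3) (Fin 3) (ZMod 3)).det = 1 := by
    rw [Matrix.det_fin_three]; decide
  obtain ⟨g, hg⟩ : ∃ g : S, g = ⟨!![0, 0, 1; 1, 0, -1; 0, 1, 0], hdet⟩ := ⟨_, rfl⟩
  obtain ⟨k, hk⟩ : ∃ k : S, k = ⟨!![1, 1, 0; 0, 0, 1; 1, 0, 0], hdet'⟩ := ⟨_, rfl⟩
  have h2 : g * k = 1 := by
    rw [hg, hk]
    apply Subtype.ext
    change (!![0, 0, 1; 1, 0, -1; 0, 1, 0] : Matrix (Fin 3) (Fin 3) (ZMod 3)) *
      !![1, 1, 0; 0, 0, 1; 1, 0, 0] = 1
    decide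
  have h3 : g⁻¹ = k := (eq_inv_of_mul_eq_one_right h2).symm
  have h4 := h1 g
  rw [coe_itr, Matrix.trace_transpose, h3, hg, hk] at h4
  revert h4
  change ¬ (!![1, 1, 0; 0, 0, 1; 1, 0, 0] : Matrix (Fin 3) (Fin 3) (ZMod 3)).trace =
    (!![0, 0, 1; 1, 0, -1; 0, 1, 0] : Matrix (Fin 3) (Fin 3) (ZMod 3)).trace
  rw [Matrix.trace_fin_three, Matrix.trace_fin_three]
  decide

theorem not_inn_conj_itr (P : S) : ¬ Inn (MulAut.conj P * itr : MulAut S) := by
  rintro ⟨Q, hQ⟩
  apply not_inn_itr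
  refine ⟨P⁻¹ * Q, ?_⟩
  rw [map_mul, ← hQ, map_inv, ← mul_assoc, inv_mul_cancel, one_mul]

/-! ### congruence of symmetric matrices -/

section ring

variable {R : Type*} [CommRing R]

theorem step2 {b c d e f x y z w : R} (h1 : x*w - y*z = 1)
    (h2 : (d-b*b)*x*x+2*(e-b*c)*x*y+(f-c*c)*y*y = 1)
    (h3 : (d-b*b)*x*z + (e-b*c)*(x*w+y*z) + (f-c*c)*y*w = 0)
    (h4 : (d-b*b)*z*z+2*(e-b*c)*z*w+(f-c*c)*w*w=1) :
    ∃ g : Matrix (Fin 3) (Fin 3) R, g.det = 1 ∧
      g * !![1,b,c;b,d,e;c,e,f] * gᵀ = 1 := by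
  refine ⟨!![1,0,0; -(x*b+y*c), x, y; -(z*b+w*c), z, w], ?_, ?_⟩
  · rw [Matrix.det_fin_three]
    simp only [_root_.neg_add_rev, _root_.Fin.isValue, _root_.Matrix.of_apply, _root_.Matrix.cons_val', _root_.Matrix.cons_val_zero, _root_.Matrix.cons_val_fin_one, _root_.Matrix.cons_val_one, _root_.one_mul, _root_.Matrix.cons_val, _root_.MulZeroClass.zero_mul, _root_.sub_zero, _root_.add_zero]
    linear_combination h1
  · ext i j
    (revert i j; simp only [Matrix.mul_apply, Fin.sum_univ_three, _root_.Fin.forall_fin_succ, _root_.neg_add_rev, _root_.Matrix.cons_mul, _root_.Nat.succ_eq_add_one, Nat.reduceAdd, _root_.Matrix.vecMul_cons, _root_.Matrix.head_cons, _root_.one_smul, _root_.Matrix.tail_cons, _root_.zero_smul, _root_.Matrix.empty_vecMul, _root_.add_zero, _root_.Matrix.smul_cons, _root_.smul_eq_mul, _root_.mul_one, _root_.Matrix.smul_empty, _root_.Matrix.add_cons, _root_.Matrix.empty_add_empty, _root_.add_neg_add_add_cancel, _root_.neg_add_cancel, _root_.Matrix.empty_mul,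 _root_.Equiv.symm_apply_apply, _root_.Matrix.of_apply, _root_.Matrix.cons_val', _root_.Matrix.cons_val_fin_one, _root_.Matrix.transpose_apply, Fin.isValue, _root_.Matrix.cons_val_zero, _root_.Matrix.cons_val_one, _root_.Matrix.cons_val, _root_.MulZeroClass.mul_zero, _root_.Matrix.cons_val_succ, _root_.IsEmpty.forall_iff, _root_.and_true, _root_.Matrix.one_apply_eq, _root_.one_mul, _root_.Fin.succ_zero_eq_one, _root_.ne_eq, _root_.zero_ne_one, _root_.not_false_eq_true, _root_.Matrix.one_apply_ne, _root_.Fin.succ_one_eq_two, Fin.reduceEq, _root_.true_and, _root_.Fin.succ_ne_zero, _root_.MulZeroClass.zero_mul, _root_.zero_add]) <;> (repeat' with_reducible apply And.intro) <;>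
      first
        | ring1
        | linear_combination h2
        | linear_combination h3
        | linear_combination h4

theorem comp_step {P g1 g2 P1 : Matrix (Fin 3) (Fin 3) R} (h1 : g1 * P * g1ᵀ = P1)
    (h2 : g2 * P1 * g2ᵀ = 1) : (g2 * g1) * P * (g2 * g1)ᵀ = 1 := by
  rw [transpose_mul, ← h2, ← h1]
  simp only [mul_assoc]

theorem shift_one (a b c d e f y z : R) :
    (!![1,y,z;0,1,0;0,0,1] : Matrix (Fin 3) (Fin 3) R) * !![a,b,c;b,d,e;c,e,f] *
      !![1,y,z;0,1,0;0,0,1]ᵀ =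
    !![a+d*y*y+f*z*z+2*(b*y+c*z+e*y*z), b+d*y+e*z, c+e*y+f*z;
      b+d*y+e*z, d, e; c+e*y+f*z, e, f] := by
  ext i j
  (revert i j; simp only [Matrix.mul_apply, Fin.sum_univ_three, _root_.Fin.forall_fin_succ, _root_.Matrix.cons_mul, _root_.Nat.succ_eq_add_one, Nat.reduceAdd, _root_.Matrix.vecMul_cons, _root_.Matrix.head_cons, _root_.one_smul, _root_.Matrix.tail_cons, _root_.Matrix.smul_cons, _root_.smul_eq_mul, _root_.Matrix.smul_empty, _root_.Matrix.empty_vecMul, _root_.add_zero, _root_.Matrix.add_cons, _root_.Matrix.empty_add_empty, _root_.zero_smul, _root_.zero_add, _root_.Matrix.empty_mul, _root_.Equiv.symm_apply_apply, _root_.Matrix.of_apply, _root_.Matrix.cons_val', _root_.Matrix.cons_val_fin_one, _root_.Matrix.transpose_apply, Fin.isValue, _root_.Matrix.cons_val_zero, _root_.Matrix.cons_val_one, _root_.Matrix.cons_val, _root_.mul_one, _root_.Matrix.cons_val_succ, _root_.MulZeroClass.mul_zero, _root_.forall_const, _root_.and_self, _root_.and_true, _root_.implies_true])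 <;> (repeat' with_reducible apply And.intro) <;> ring

theorem shift_two (a b c d e f z : R) :
    (!![0,1,z;0,0,1;1,0,0] : Matrix (Fin 3) (Fin 3) R) * !![a,b,c;b,d,e;c,e,f] *
      !![0,1,z;0,0,1;1,0,0]ᵀ =
    !![d+f*z*z+2*(e*z), e+z*f, b+z*c; e+z*f, f, c; b+z*c, c, a] := by
  ext i j
  (revert i j; simp only [Matrix.mul_apply, Fin.sum_univ_three, _root_.Fin.forall_fin_succ, _root_.Matrix.cons_mul, _root_.Nat.succ_eq_add_one, Nat.reduceAdd, _root_.Matrix.vecMul_cons, _root_.Matrix.head_cons, _root_.zero_smul, _root_.Matrix.tail_cons, _root_.one_smul, _root_.Matrix.smul_cons, _root_.smul_eq_mul, _root_.Matrix.smul_empty, _root_.Matrix.empty_vecMul, _root_.add_zero, _root_.Matrix.add_cons, _root_.Matrix.empty_add_empty, _root_.zero_add, _root_.Matrix.empty_mul, _root_.Equiv.symm_apply_apply, _root_.Matrix.of_apply, _root_.Matrix.cons_val', _root_.Matrix.cons_val_fin_one, _root_.Matrix.transpose_apply, Fin.isValue, _root_.Matrix.cons_val_zero, _root_.Matrix.cons_val_one,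 _root_.Matrix.cons_val, _root_.MulZeroClass.mul_zero, _root_.mul_one, _root_.Matrix.cons_val_succ, _root_.implies_true, _root_.and_self, _root_.and_true, _root_.add_right_inj, _root_.forall_const]) <;> (repeat' with_reducible apply And.intro) <;> ring

theorem shift_three (a b c d e f : R) :
    (!![0,0,1;1,0,0;0,1,0] : Matrix (Fin 3) (Fin 3) R) * !![a,b,c;b,d,e;c,e,f] *
      !![0,0,1;1,0,0;0,1,0]ᵀ = !![f,c,e;c,a,b;e,b,d] := by
  ext i j
  (revert i j; simp only [Matrix.mul_apply, Fin.sum_univ_three, _root_.Fin.forall_fin_succ, _root_.Matrix.cons_mul, _root_.Nat.succ_eq_add_one, Nat.reduceAdd, _root_.Matrix.vecMul_cons, _root_.Matrix.head_cons, _root_.zero_smul, _root_.Matrix.tail_cons, _root_.one_smul, _root_.Matrix.empty_vecMul, _root_.add_zero, _root_.zero_add, _root_.Matrix.empty_mul, _root_.Equiv.symm_apply_apply, _root_.Matrix.of_apply, _root_.Matrix.cons_val', _root_.Matrix.cons_val_fin_one, _root_.Matrix.transpose_apply, Fin.isValue, _root_.Matrix.cons_val_zero,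 _root_.Matrix.cons_val_one, _root_.Matrix.cons_val, _root_.MulZeroClass.mul_zero, _root_.mul_one, _root_.Matrix.cons_val_succ, _root_.implies_true, _root_.and_self])

end ring

theorem rep_one : ∀ a b c d e f : ZMod 3, a*(d*f - e*e) - b*(b*f - e*c) + c*(b*e - d*c) = 1 →
    (∃ y z : ZMod 3, a+d*y*y+f*z*z+2*(b*y+c*z+e*y*z) = 1) ∨
    (∃ z : ZMod 3, d+f*z*z+2*(e*z) = 1) ∨ f = 1 := by
  decide +kernel

theorem rep_two : ∀ b c d e f : ZMod 3, (d*f - e*e) - b*(b*f - e*c) + c*(b*e - d*c) = 1 →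
    ∃ x y z w : ZMod 3, x*w - y*z = 1 ∧
      (d-b*b)*x*x+2*(e-b*c)*x*y+(f-c*c)*y*y = 1 ∧
      (d-b*b)*x*z + (e-b*c)*(x*w+y*z) + (f-c*c)*y*w = 0 ∧
      (d-b*b)*z*z+2*(e-b*c)*z*w+(f-c*c)*w*w=1 := by
  decide +kernel

theorem cong_one {b c d e f : ZMod 3} (h : (!![1,b,c;b,d,e;c,e,f] :
    Matrix (Fin 3) (Fin 3) (ZMod 3)).det = 1) :
    ∃ g : Matrix (Fin 3) (Fin 3) (ZMod 3), g.det = 1 ∧ g * !![1,b,c;b,d,e;c,e,f] * gᵀ = 1 := by
  have h' : (d*f - e*e) - b*(b*f - e*c) + c*(b*e - d*c) = 1 := by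
    rw [← h, Matrix.det_fin_three]
    simp only [_root_.Fin.isValue, _root_.Matrix.of_apply, _root_.Matrix.cons_val', _root_.Matrix.cons_val_zero, _root_.Matrix.cons_val_fin_one, _root_.Matrix.cons_val_one, _root_.one_mul, _root_.Matrix.cons_val]
    ring
  obtain ⟨x, y, z, w, h1, h2, h3, h4⟩ := rep_two b c d e f h'
  exact step2 h1 h2 h3 h4

theorem cong {P : Matrix (Fin 3) (Fin 3) (ZMod 3)} (hP : Pᵀ = P) (hdet : P.det = 1) :
    ∃ g : Matrix (Fin 3) (Fin 3) (ZMod 3), g.det = 1 ∧ g * P * gᵀ = 1 := by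
  have key : ∀ g1 P1 : Matrix (Fin 3) (Fin 3) (ZMod 3), g1.det = 1 → g1 * P * g1ᵀ = P1 →
      (∃ b c d e f : ZMod 3, P1 = !![1,b,c;b,d,e;c,e,f]) →
      ∃ g : Matrix (Fin 3) (Fin 3) (ZMod 3), g.det = 1 ∧ g * P * gᵀ = 1 := by
    rintro g1 P1 hg1 h1 ⟨b, c, d, e, f, rfl⟩
    have h2 : (!![1,b,c;b,d,e;c,e,f] : Matrix (Fin 3) (Fin 3) (ZMod 3)).det = 1 := by
      rw [← h1, det_mul, det_mul, det_transpose, hg1, hdet, one_mul, one_mul]
    obtain ⟨g2, hg2, h3⟩ := cong_one h2
    exact ⟨g2 * g1, by rw [det_mul, hg1, hg2, one_mul], comp_step h1 h3⟩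
  obtain ⟨a, b, c, d, e, f, hPe⟩ : ∃ a b c d e f : ZMod 3, P = !![a,b,c;b,d,e;c,e,f] := by
    refine ⟨P 0 0, P 0 1, P 0 2, P 1 1, P 1 2, P 2 2, ?_⟩
    have h1 : ∀ i j, P j i = P i j := fun i j => congrFun (congrFun hP i) j
    ext i j
    (revert i j; simp only [h1 0 1, h1 0 2, h1 1 2, _root_.Fin.forall_fin_succ, Fin.isValue, _root_.Matrix.of_apply, _root_.Matrix.cons_val', _root_.Matrix.cons_val_fin_one, _root_.Matrix.cons_val_zero, _root_.Matrix.cons_val_succ, _root_.Fin.succ_zero_eq_one, _root_.Fin.succ_one_eq_two, _root_.IsEmpty.forall_iff, _root_.and_true, _root_.and_self])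
  subst hPe
  have h' : a*(d*f - e*e) - b*(b*f - e*c) + c*(b*e - d*c) = 1 := by
    rw [← hdet, Matrix.det_fin_three]
    simp only [_root_.Fin.isValue, _root_.Matrix.of_apply, _root_.Matrix.cons_val', _root_.Matrix.cons_val_zero, _root_.Matrix.cons_val_fin_one, _root_.Matrix.cons_val_one, _root_.Matrix.cons_val]
    ring
  rcases rep_one a b c d e f h' with ⟨y, z, h⟩ | ⟨z, h⟩ | h
  · refine key !![1,y,z;0,1,0;0,0,1] _ ?_ (shift_one a b c d e f y z) ?_
    · rw [Matrix.det_fin_three]; simp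
    · rw [h]; exact ⟨_, _, _, _, _, rfl⟩
  · refine key !![0,1,z;0,0,1;1,0,0] _ ?_ (shift_two a b c d e f z) ?_
    · rw [Matrix.det_fin_three]; simp
    · rw [h]; exact ⟨_, _, _, _, _, rfl⟩
  · refine key !![0,0,1;1,0,0;0,1,0] _ ?_ (shift_three a b c d e f) ?_
    · rw [Matrix.det_fin_three]; simp
    · rw [h]; exact ⟨_, _, _, _, _, rfl⟩

/-! ### the involutions and their centralizers -/

theorem dm_det : (dm (ZMod 3)).det = 1 := by
  unfold dm
  rw [Matrix.det_fin_three]
  simp

/-- the involution `diag(1,-1,-1)` -/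
def z : S := ⟨dm (ZMod 3), dm_det⟩

theorem coe_z : (z : S).1 = dm (ZMod 3) := rfl

seal _root_.Finset.card _root_.Function.update _root_.nsmulRec _root_.zsmulRec _root_.Finset.prod _root_.Equiv.swap in
theorem exists_conj_z {x : S} (hx : orderOf x = 2) : ∃ Q : S, x = Q * z * Q⁻¹ := by
  have hxx : x * x = 1 := by
    rw [← pow_two, ← hx, pow_orderOf_eq_one]
  have hx1 : x ≠ 1 := by
    rintro rfl
    simp at hx
  obtain ⟨P, hP, hTP⟩ := exists_conj two_ne (T := x.1)
    (by rw [← Matrix.SpecialLinearGroup.coe_mul, hxx]; rfl) x.2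
    (fun h => hx1 (Subtype.ext h))
  obtain ⟨Q, hQ⟩ : ∃ Q : S, Q.1 = P := ⟨⟨P, hP⟩, rfl⟩
  refine ⟨Q, ?_⟩
  apply eq_mul_inv_of_mul_eq
  apply Subtype.ext
  rw [Matrix.SpecialLinearGroup.coe_mul, Matrix.SpecialLinearGroup.coe_mul, hQ, coe_z]
  exact hTP

theorem emb_injective : Function.Injective (emb : GL (Fin 2) (ZMod 3) →* S) := by
  intro A B h
  have h1 : embMat A.1 = embMat B.1 := congrArg Subtype.val h
  apply Units.ext
  ext i j
  have e11 := congrFun (congrFun h1 1) 1
  have e12 := congrFun (congrFun h1 1) 2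
  have e21 := congrFun (congrFun h1 2) 1
  have e22 := congrFun (congrFun h1 2) 2
  simp only [embMat, _root_.Cfsg.Agent.TwoFusion.PSL3Inv.embMat, _root_.Fin.isValue, _root_.Matrix.of_apply, _root_.Matrix.cons_val', _root_.Matrix.cons_val_one, _root_.Matrix.cons_val_zero, _root_.Matrix.cons_val_fin_one, _root_.Matrix.cons_val] at e11 e12 e21 e22
  fin_cases i <;> fin_cases j <;> assumption

theorem range_emb : (emb : GL (Fin 2) (ZMod 3) →* S).range = centralizer ({z} : Set S) := by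
  ext y
  rw [mem_centralizer_singleton_iff]
  constructor
  · rintro ⟨A, rfl⟩
    apply Subtype.ext
    rw [Matrix.SpecialLinearGroup.coe_mul, Matrix.SpecialLinearGroup.coe_mul, coe_z, emb_coe]
    exact embMat_comm _
  · intro h
    have h1 : y.1 * dm (ZMod 3) = dm (ZMod 3) * y.1 := by
      have := congrArg Subtype.val h
      rwa [Matrix.SpecialLinearGroup.coe_mul, Matrix.SpecialLinearGroup.coe_mul, coe_z] at this
    obtain ⟨A, hA⟩ := exists_emb_eq two_ne y h1
    exact ⟨A, hA⟩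

theorem neg_eq : ∀ x : ZMod 3, -x = x → x = 0 := by decide

theorem fin_cent : ∀ a b : ZMod 3, a * (b * b) = 1 → (a = 1 ∧ b = 1) ∨ (a = 1 ∧ b = -1) := by
  decide

theorem cent_in {P : Matrix (Fin 3) (Fin 3) (ZMod 3)} (hdet : P.det = 1)
    (h0 : P * dm (ZMod 3) = dm (ZMod 3) * P)
    (h1 : P * !![1,0,0;0,1,1;0,0,1] = !![1,0,0;0,1,1;0,0,1] * P)
    (h2 : P * !![1,0,0;0,1,0;0,1,1] = !![1,0,0;0,1,0;0,1,1] * P) :
    P = 1 ∨ P = dm (ZMod 3) := by
  have a01 := congrFun (congrFun h0 0) 1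
  have a02 := congrFun (congrFun h0 0) 2
  have a10 := congrFun (congrFun h0 1) 0
  have a20 := congrFun (congrFun h0 2) 0
  have b11 := congrFun (congrFun h1 1) 1
  have b12 := congrFun (congrFun h1 1) 2
  have c11 := congrFun (congrFun h2 1) 1
  simp only [dm, Matrix.mul_apply, Fin.sum_univ_three, _root_.Cfsg.Agent.TwoFusion.PSL3Inv.dm, _root_.Fin.isValue, _root_.Matrix.mul_apply, _root_.Matrix.of_apply, _root_.Matrix.cons_val', _root_.Matrix.cons_val_one, _root_.Matrix.cons_val_zero, _root_.Matrix.cons_val_fin_one, _root_.Fin.sum_univ_three, _root_.MulZeroClass.mul_zero, _root_.mul_neg, _root_.mul_one, _root_.zero_add, _root_.Matrix.cons_val, _root_.add_zero, _root_.one_mul, _root_.MulZeroClass.zero_mul, _root_.neg_mul, _root_.left_eq_add, _root_.add_eq_left] at a01 a02 a10 a20 b11 b12 c11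
  obtain ⟨a, b, hP⟩ : ∃ a b : ZMod 3, P = !![a,0,0;0,b,0;0,0,b] := by
    refine ⟨P 0 0, P 1 1, ?_⟩
    rw [c11, add_zero, zero_add] at b12
    ext i j
    (revert i j; simp only [b11, c11, neg_eq _ a01, neg_eq _ a02, neg_eq _ a10.symm, neg_eq _ a20.symm, b12, _root_.Fin.forall_fin_succ, Fin.isValue, _root_.Matrix.of_apply, _root_.Matrix.cons_val', _root_.Matrix.cons_val_fin_one, _root_.Matrix.cons_val_zero, _root_.Matrix.cons_val_succ, _root_.Fin.succ_zero_eq_one, _root_.Fin.succ_one_eq_two, _root_.IsEmpty.forall_iff, _root_.and_true, _root_.and_self])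
  subst hP
  rw [Matrix.det_fin_three] at hdet
  simp only [_root_.Fin.isValue, _root_.Matrix.of_apply, _root_.Matrix.cons_val', _root_.Matrix.cons_val_zero, _root_.Matrix.cons_val_fin_one, _root_.Matrix.cons_val_one, _root_.Matrix.cons_val, _root_.MulZeroClass.mul_zero, _root_.sub_zero, _root_.MulZeroClass.zero_mul, _root_.add_zero] at hdet
  rcases fin_cent a b (by rw [← mul_assoc]; exact hdet) with ⟨rfl, rfl⟩ | ⟨rfl, rfl⟩
  · left
    ext i j
    (revert i j; simp only [_root_.Fin.forall_fin_succ, _root_.Matrix.of_apply, _root_.Matrix.cons_val', _root_.Matrix.cons_val_fin_one, Fin.isValue, _root_.Matrix.cons_val_zero, _root_.Matrix.cons_val_succ, _root_.IsEmpty.forall_iff, _root_.and_true, _root_.Matrix.one_apply_eq, Nat.reduceAdd, _root_.Fin.succ_zero_eq_one, _root_.ne_eq, _root_.zero_ne_one, _root_.not_false_eq_true, _root_.Matrix.one_apply_ne, _root_.Fin.succ_one_eq_two, Fin.reduceEq, _root_.and_self, _root_.Fin.succ_ne_zero, _root_.true_and])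
  · right
    rfl

theorem cent_out {P : Matrix (Fin 3) (Fin 3) (ZMod 3)}
    (h0 : P = dm (ZMod 3) * P * (dm (ZMod 3))ᵀ)
    (h1 : P = !![1,0,0;0,1,1;0,0,1] * P * !![1,0,0;0,1,1;0,0,1]ᵀ)
    (h2 : P = !![-1,0,0;0,-1,0;0,0,1] * P * !![-1,0,0;0,-1,0;0,0,1]ᵀ) :
    P.det = 0 := by
  have a01 := congrFun (congrFun h0 0) 1
  have a02 := congrFun (congrFun h0 0) 2
  have b12 := congrFun (congrFun h2 1) 2
  have c11 := congrFun (congrFun h1 1) 1
  have b21 := congrFun (congrFun h2 2) 1
  simp only [dm, Matrix.mul_apply, Fin.sum_univ_three, Matrix.vecMul, dotProduct, _root_.Fin.isValue, _root_.Cfsg.Agent.TwoFusion.PSL3Inv.dm, _root_.Matrix.cons_mul, _root_.Nat.succ_eq_add_one, _root_.Nat.reduceAdd, _root_.Matrix.empty_mul, _root_.Equiv.symm_apply_apply, _root_.Matrix.mul_apply, _root_.Matrix.of_apply, _root_.Matrix.cons_val', _root_.Matrix.vecMul, _root_.dotProduct, _root_.Fin.sum_univ_three, _root_.Matrix.cons_val_zero, _root_.one_mul, _root_.Matrix.cons_val_one,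 _root_.MulZeroClass.zero_mul, _root_.add_zero, _root_.Matrix.cons_val, _root_.neg_mul, _root_.zero_add, _root_.Matrix.cons_val_fin_one, _root_.Matrix.transpose_apply, _root_.MulZeroClass.mul_zero, _root_.mul_neg, _root_.mul_one, _root_.Finset.sum_neg_distrib] at a01 a02 b12 b21 c11
  have a01' := neg_eq _ a01.symm
  have a02' := neg_eq _ a02.symm
  have b12' := neg_eq _ b12.symm
  have b21' := neg_eq _ b21.symm
  have c22 : P 2 2 = 0 := by
    rw [b12', b21'] at c11
    linear_combination -c11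
  rw [Matrix.det_fin_three, a01', a02', b12', b21', c22]
  ring

/-! ### automorphisms -/

theorem itr_mul_transpose (y : S) : (itr y : S).1 * y.1ᵀ = 1 := by
  rw [coe_itr, ← transpose_mul, ← Matrix.SpecialLinearGroup.coe_mul, mul_inv_cancel,
    Matrix.SpecialLinearGroup.coe_one, transpose_one]

theorem commute_of_conj {P y : S} (h : MulAut.conj P y = y) : P * y = y * P := by
  rw [MulAut.conj_apply] at h
  exact mul_inv_eq_iff_eq_mul.mp h

theorem form_of_conj {P y : S} (h : (MulAut.conj P * itr : MulAut S) y = y) :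
    P.1 = y.1 * P.1 * y.1ᵀ := by
  rw [MulAut.mul_apply, MulAut.conj_apply] at h
  have h1 : P * itr y = y * P := mul_inv_eq_iff_eq_mul.mp h
  have h2 : P.1 * (itr y : S).1 = y.1 * P.1 := by
    rw [← Matrix.SpecialLinearGroup.coe_mul, ← Matrix.SpecialLinearGroup.coe_mul, h1]
  rw [← h2, mul_assoc, itr_mul_transpose, mul_one]

theorem coe_comm {P y : S} (h : P * y = y * P) : P.1 * y.1 = y.1 * P.1 := by
  rw [← Matrix.SpecialLinearGroup.coe_mul, ← Matrix.SpecialLinearGroup.coe_mul, h]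

theorem cent_z (α : MulAut S) (hα : ∀ y : S, y * z = z * y → α y = y) :
    α = 1 ∨ α = MulAut.conj z := by
  have hz : z * z = z * z := rfl
  obtain ⟨u, hu⟩ : ∃ u : S, u.1 = !![1,0,0;0,1,1;0,0,1] :=
    ⟨⟨_, by rw [Matrix.det_fin_three]; simp⟩, rfl⟩
  obtain ⟨v, hv⟩ : ∃ v : S, v.1 = !![1,0,0;0,1,0;0,1,1] :=
    ⟨⟨_, by rw [Matrix.det_fin_three]; simp⟩, rfl⟩
  obtain ⟨w, hw⟩ : ∃ w : S, w.1 = !![-1,0,0;0,-1,0;0,0,1] :=
    ⟨⟨_, by rw [Matrix.det_fin_three]; simp⟩, rfl⟩
  have key : ∀ y : S, y.1 * dm (ZMod 3) = dm (ZMod 3) * y.1 → α y = y := by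
    intro y hy
    apply hα
    apply Subtype.ext
    rw [Matrix.SpecialLinearGroup.coe_mul, Matrix.SpecialLinearGroup.coe_mul, coe_z]
    exact hy
  have hαz : α z = z := hα z rfl
  have hαu : α u = u := key u (by
    rw [hu]; unfold dm
    ext i j
    (revert i j; simp only [Matrix.mul_apply, Fin.sum_univ_three, _root_.Fin.forall_fin_succ, _root_.Matrix.of_apply, _root_.Matrix.cons_val', _root_.Matrix.cons_val_fin_one, Fin.isValue, _root_.Matrix.cons_val_zero, _root_.Matrix.cons_val_one, _root_.Matrix.cons_val, _root_.mul_one, _root_.MulZeroClass.mul_zero, _root_.add_zero, _root_.Matrix.cons_val_succ, _root_.mul_neg, _root_.zero_add, _root_.forall_const, _root_.true_and, _root_.neg_zero, _root_.and_self, _root_.implies_true]))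
  have hαv : α v = v := key v (by
    rw [hv]; unfold dm
    ext i j
    (revert i j; simp only [Matrix.mul_apply, Fin.sum_univ_three, _root_.Fin.forall_fin_succ, _root_.Matrix.of_apply, _root_.Matrix.cons_val', _root_.Matrix.cons_val_fin_one, Fin.isValue, _root_.Matrix.cons_val_zero, _root_.Matrix.cons_val_one, _root_.Matrix.cons_val, _root_.mul_one, _root_.MulZeroClass.mul_zero, _root_.add_zero, _root_.Matrix.cons_val_succ, _root_.mul_neg, _root_.zero_add, _root_.forall_const, _root_.true_and, _root_.neg_zero, _root_.and_self, _root_.implies_true]))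
  have hαw : α w = w := key w (by
    rw [hw]; unfold dm
    ext i j
    (revert i j; simp only [Matrix.mul_apply, Fin.sum_univ_three, _root_.Fin.forall_fin_succ, _root_.Matrix.of_apply, _root_.Matrix.cons_val', _root_.Matrix.cons_val_fin_one, Fin.isValue, _root_.Matrix.cons_val_zero, _root_.Matrix.cons_val_one, _root_.Matrix.cons_val, _root_.mul_one, _root_.MulZeroClass.mul_zero, _root_.add_zero, _root_.mul_neg, _root_.Matrix.cons_val_succ, _root_.zero_add, _root_.forall_const, _root_.true_and, _root_.neg_zero, _root_.and_self, _root_.implies_true]))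
  rcases aut_cases α with ⟨P, rfl⟩ | ⟨P, rfl⟩
  · have h0 := coe_comm (commute_of_conj hαz)
    have h1 := coe_comm (commute_of_conj hαu)
    have h2 := coe_comm (commute_of_conj hαv)
    rw [coe_z] at h0
    rw [hu] at h1
    rw [hv] at h2
    rcases cent_in P.2 h0 h1 h2 with h | h
    · left
      have : P = 1 := Subtype.ext h
      rw [this, map_one]
    · right
      have : P = z := Subtype.ext h
      rw [this]
  · exfalso
    have h0 := form_of_conj hαz
    have h1 := form_of_conj hαu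
    have h2 := form_of_conj hαw
    rw [coe_z] at h0
    rw [hu] at h1
    rw [hw] at h2
    have h3 := cent_out h0 h1 h2
    rw [P.2] at h3
    revert h3
    decide

/-- Every outer involution is conjugate to `itr`. -/
theorem exists_conj_itr {α : MulAut S} (hα : α * α = 1) (hn : ¬ Inn α) :
    ∃ l : S, MulAut.conj l * α * (MulAut.conj l)⁻¹ = itr := by
  rcases aut_cases α with ⟨P, rfl⟩ | ⟨P, rfl⟩
  · exact absurd ⟨P, rfl⟩ hn
  · have h1 : MulAut.conj (P * itr P) = (1 : MulAut S) := by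
      rw [← hα, map_mul]
      calc MulAut.conj P * MulAut.conj (itr P) =
          MulAut.conj P * (MulAut.conj (itr P) * itr) * itr := by
            rw [mul_assoc, mul_assoc, itr_mul_itr, mul_one]
        _ = MulAut.conj P * itr * (MulAut.conj P * itr) := by
            rw [← itr_mul_conj]; simp only [mul_assoc]
    have h2 : P * itr P = 1 := by
      apply eq_one_of_center
      intro g
      apply commute_of_conj
      rw [h1]
      rfl
    have h3 : P.1ᵀ = P.1 := by
      have h4 : P.1 * (itr P : S).1 = 1 := by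
        rw [← Matrix.SpecialLinearGroup.coe_mul, h2, Matrix.SpecialLinearGroup.coe_one]
      calc P.1ᵀ = P.1 * (itr P : S).1 * P.1ᵀ := by rw [h4, one_mul]
        _ = P.1 := by rw [mul_assoc, itr_mul_transpose, mul_one]
    obtain ⟨g, hg, hgP⟩ := cong h3 P.2
    obtain ⟨l, hl⟩ : ∃ l : S, l.1 = g := ⟨⟨g, hg⟩, rfl⟩
    refine ⟨l, ?_⟩
    have h5 : l * P = itr l := by
      apply Subtype.ext
      rw [Matrix.SpecialLinearGroup.coe_mul, hl]
      have h6 := itr_mul_transpose l
      rw [hl] at h6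
      have h7 : (itr l : S).1 * (gᵀ * (itr l : S).1) = (itr l : S).1 := by
        rw [← mul_assoc, h6, one_mul]
      have h8 : gᵀ * (itr l : S).1 = 1 := mul_eq_one_comm.mp h6
      calc g * P.1 = g * P.1 * (gᵀ * (itr l : S).1) := by rw [h8, mul_one]
        _ = g * P.1 * gᵀ * (itr l : S).1 := by simp only [mul_assoc]
        _ = (itr l : S).1 := by rw [hgP, one_mul]
    calc MulAut.conj l * (MulAut.conj P * itr) * (MulAut.conj l)⁻¹
        = MulAut.conj (l * P) * (itr * MulAut.conj l⁻¹) := by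
          rw [map_mul, map_inv]; simp only [mul_assoc]
      _ = MulAut.conj (itr l) * (MulAut.conj (itr l⁻¹) * itr) := by rw [h5, itr_mul_conj]
      _ = itr := by
          rw [← mul_assoc, ← map_mul, ← map_mul, mul_inv_cancel, map_one, map_one, one_mul]

theorem mem_fix_itr {y : S} : y ∈ _root_.Cfsg.Agent.GH.L3S.Defs.Fix (itr : MulAut S) ↔ y.1 * y.1ᵀ = 1 := by
  constructor
  · intro h
    have h1 : itr y = y := h
    have h2 := itr_mul_transpose y
    rwa [h1] at h2
  · intro h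
    change itr y = y
    apply Subtype.ext
    have h2 := itr_mul_transpose y
    have h3 : y.1ᵀ * y.1 = 1 := mul_eq_one_comm.mp h
    calc (itr y : S).1 = (itr y : S).1 * (y.1ᵀ * y.1) := by rw [h3, mul_one]
      _ = y.1 := by rw [← mul_assoc, h2, one_mul]

theorem scalar_of {P : Matrix (Fin 3) (Fin 3) (ZMod 3)} (hdet : P.det = 1)
    (h0 : P * dm (ZMod 3) = dm (ZMod 3) * P)
    (h1 : P * !![0,1,0;0,0,1;1,0,0] = !![0,1,0;0,0,1;1,0,0] * P) : P = 1 := by
  have a01 := congrFun (congrFun h0 0) 1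
  have a02 := congrFun (congrFun h0 0) 2
  have a10 := congrFun (congrFun h0 1) 0
  have a20 := congrFun (congrFun h0 2) 0
  have b01 := congrFun (congrFun h1 0) 1
  have b12 := congrFun (congrFun h1 1) 2
  have b10 := congrFun (congrFun h1 0) 2
  have b11 := congrFun (congrFun h1 1) 1
  simp only [dm, Matrix.mul_apply, Fin.sum_univ_three, _root_.Cfsg.Agent.TwoFusion.PSL3Inv.dm, _root_.Fin.isValue, _root_.Matrix.mul_apply, _root_.Matrix.of_apply, _root_.Matrix.cons_val', _root_.Matrix.cons_val_one, _root_.Matrix.cons_val_zero, _root_.Matrix.cons_val_fin_one, _root_.Fin.sum_univ_three, _root_.MulZeroClass.mul_zero, _root_.mul_neg, _root_.mul_one, _root_.zero_add, _root_.Matrix.cons_val, _root_.add_zero, _root_.one_mul, _root_.MulZeroClass.zero_mul, _root_.neg_mul] at a01 a02 a10 a20 b01 b12 b10 b11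
  have h3 : ∀ a : ZMod 3, a * a * a = 1 → a = 1 := by decide
  obtain ⟨a, hP⟩ : ∃ a : ZMod 3, P = !![a,0,0;0,a,0;0,0,a] := by
    refine ⟨P 0 0, ?_⟩
    have a01' := neg_eq _ a01
    have a02' := neg_eq _ a02
    have a10' := neg_eq _ a10.symm
    have a20' := neg_eq _ a20.symm
    ext i j
    (revert i j; simp only [← b12, ← b01, ← b10, ← b11, a01', a02', a10', a20', _root_.Fin.forall_fin_succ, Fin.isValue, _root_.Matrix.of_apply, _root_.Matrix.cons_val', _root_.Matrix.cons_val_fin_one, _root_.Matrix.cons_val_zero, _root_.Matrix.cons_val_succ, _root_.Fin.succ_zero_eq_one, _root_.Fin.succ_one_eq_two, _root_.IsEmpty.forall_iff, _root_.and_true, _root_.and_self])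
  subst hP
  rw [Matrix.det_fin_three] at hdet
  simp only [_root_.Fin.isValue, _root_.Matrix.of_apply, _root_.Matrix.cons_val', _root_.Matrix.cons_val_zero, _root_.Matrix.cons_val_fin_one, _root_.Matrix.cons_val_one, _root_.Matrix.cons_val, _root_.MulZeroClass.mul_zero, _root_.sub_zero, _root_.MulZeroClass.zero_mul, _root_.add_zero] at hdet
  rw [h3 a hdet]
  ext i j
  (revert i j; simp only [_root_.Fin.forall_fin_succ, _root_.Matrix.of_apply, _root_.Matrix.cons_val', _root_.Matrix.cons_val_fin_one, Fin.isValue, _root_.Matrix.cons_val_zero, _root_.Matrix.cons_val_succ, _root_.IsEmpty.forall_iff, _root_.and_true, _root_.Matrix.one_apply_eq, Nat.reduceAdd, _root_.Fin.succ_zero_eq_one, _root_.ne_eq, _root_.zero_ne_one, _root_.not_false_eq_true, _root_.Matrix.one_apply_ne, _root_.Fin.succ_one_eq_two, Fin.reduceEq, _root_.and_self, _root_.Fin.succ_ne_zero, _root_.true_and])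

theorem cent_itr (β : MulAut S) (hβ : ∀ y : S, itr y = y → β y = y) : β = 1 ∨ β = itr := by
  have hz : itr z = z := by
    have h : z ∈ _root_.Cfsg.Agent.GH.L3S.Defs.Fix (itr : MulAut S) := by
      rw [mem_fix_itr, coe_z]
      unfold dm
      ext i j
      (revert i j; simp only [Matrix.mul_apply, Fin.sum_univ_three, _root_.Fin.forall_fin_succ, _root_.Matrix.of_apply, _root_.Matrix.cons_val', _root_.Matrix.cons_val_fin_one, _root_.Matrix.transpose_apply, Fin.isValue, _root_.Matrix.cons_val_zero, _root_.Matrix.cons_val_one, _root_.Matrix.cons_val, _root_.mul_one, _root_.MulZeroClass.mul_zero, _root_.add_zero, _root_.Matrix.cons_val_succ, _root_.mul_neg, _root_.zero_add, _root_.IsEmpty.forall_iff, _root_.and_true, _root_.Matrix.one_apply_eq, _root_.neg_zero, Nat.reduceAdd, _root_.Fin.succ_zero_eq_one, _root_.ne_eq, _root_.zero_ne_one, _root_.not_false_eq_true, _root_.Matrix.one_apply_ne, _root_.Fin.succ_one_eq_two, Fin.reduceEq, _root_.and_self, _root_.Fin.succ_ne_zero,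 _root_.neg_neg, _root_.true_and])
    exact h
  obtain ⟨u, hu⟩ : ∃ u : S, u.1 = !![0,1,0;0,0,1;1,0,0] :=
    ⟨⟨_, by rw [Matrix.det_fin_three]; simp⟩, rfl⟩
  have hiu : itr u = u := by
    have h : u ∈ _root_.Cfsg.Agent.GH.L3S.Defs.Fix (itr : MulAut S) := by
      rw [mem_fix_itr, hu]
      ext i j
      (revert i j; simp only [Matrix.mul_apply, Fin.sum_univ_three, _root_.Fin.forall_fin_succ, _root_.Matrix.of_apply, _root_.Matrix.cons_val', _root_.Matrix.cons_val_fin_one, _root_.Matrix.transpose_apply, Fin.isValue, _root_.Matrix.cons_val_zero, _root_.Matrix.cons_val_one, _root_.Matrix.cons_val, _root_.MulZeroClass.mul_zero, _root_.mul_one, _root_.zero_add, _root_.add_zero, _root_.Matrix.cons_val_succ, _root_.IsEmpty.forall_iff, _root_.and_true, _root_.Matrix.one_apply_eq, Nat.reduceAdd, _root_.Fin.succ_zero_eq_one, _root_.ne_eq, _root_.zero_ne_one, _root_.not_false_eq_true, _root_.Matrix.one_apply_ne, _root_.Fin.succ_one_eq_two, Fin.reduceEq, _root_.and_self,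 _root_.Fin.succ_ne_zero, _root_.true_and])
    exact h
  have key : ∀ P : S, MulAut.conj P z = z → MulAut.conj P u = u → P = 1 := by
    intro P h1 h2
    have h0 := coe_comm (commute_of_conj h1)
    have h1 := coe_comm (commute_of_conj h2)
    rw [coe_z] at h0
    rw [hu] at h1
    exact Subtype.ext (scalar_of P.2 h0 h1)
  rcases aut_cases β with ⟨P, rfl⟩ | ⟨P, rfl⟩
  · left
    rw [key P (hβ z hz) (hβ u hiu), map_one]
  · right
    have h1 := hβ z hz
    have h2 := hβ u hiu
    rw [MulAut.mul_apply, hz] at h1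
    rw [MulAut.mul_apply, hiu] at h2
    rw [key P h1 h2, map_one, one_mul]

/-! ### `Fix itr ≃ S₄` -/

def cf : Fin 3 → Fin 4 → ZMod 3 := fun i j => if j = 0 ∨ j.val = i.val + 1 then 1 else -1

def Mf (σ : Equiv.Perm (Fin 4)) (i j : Fin 3) : ZMod 3 :=
  cf i (σ 0) * cf j 0 + cf i (σ 1) * cf j 1 + cf i (σ 2) * cf j 2 + cf i (σ 3) * cf j 3

theorem cf_orth : ∀ l k : Fin 4, ∑ m, cf m l * cf m k = (if l = k then 1 else 0) - 1 := by
  decide

theorem cf_sum : ∀ i : Fin 3, ∑ l, cf i l = 0 := by decide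

theorem Mf_eq (σ : Equiv.Perm (Fin 4)) (i j : Fin 3) : Mf σ i j = ∑ l, cf i (σ l) * cf j l := by
  rw [Fin.sum_univ_four]; rfl

theorem Mf_mul (σ τ : Equiv.Perm (Fin 4)) (i j : Fin 3) :
    Mf (σ * τ) i j = ∑ m, Mf σ i m * Mf τ m j := by
  simp only [Mf_eq]
  have h1 : ∑ m, (∑ l, cf i (σ l) * cf m l) * (∑ k, cf m (τ k) * cf j k) =
      ∑ l, ∑ k, (cf i (σ l) * cf j k) * ∑ m, cf m l * cf m (τ k) := by
    have h0 : ∀ m, (∑ l, cf i (σ l) * cf m l) * (∑ k, cf m (τ k) * cf j k) =
        ∑ l, ∑ k, (cf i (σ l) * cf m l) * (cf m (τ k) * cf j k) := fun m =>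
      Finset.sum_mul_sum ..
    rw [Finset.sum_congr rfl fun m _ => h0 m, Finset.sum_comm]
    refine Finset.sum_congr rfl fun l _ => ?_
    rw [Finset.sum_comm]
    refine Finset.sum_congr rfl fun k _ => ?_
    rw [Finset.mul_sum]
    refine Finset.sum_congr rfl fun m _ => ?_
    ring
  rw [h1]
  simp only [cf_orth, mul_sub, mul_one, mul_ite, mul_zero, Finset.sum_sub_distrib]
  have h2 : ∑ l, ∑ k, cf i (σ l) * cf j k = 0 := by
    simp only [← Finset.mul_sum, cf_sum, mul_zero, Finset.sum_const_zero]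
  rw [h2, sub_zero, Finset.sum_comm]
  simp only [Finset.sum_ite_eq', _root_.Equiv.Perm.coe_mul, _root_.Function.comp_apply, _root_.Finset.sum_ite_eq', _root_.Finset.mem_univ, ↓ _root_.reduceIte]

set_option maxRecDepth 100000 in
theorem Mf_orth : ∀ σ : Equiv.Perm (Fin 4), ∀ i j,
    Mf σ i 0 * Mf σ j 0 + Mf σ i 1 * Mf σ j 1 + Mf σ i 2 * Mf σ j 2 = if i = j then 1 else 0 := by
  decide +kernel

set_option maxRecDepth 100000 in
theorem Mf_inj : ∀ σ : Equiv.Perm (Fin 4), (∀ i j, Mf σ i j = if i = j then 1 else 0) → σ = 1 := by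
  decide +kernel

set_option maxRecDepth 100000 in
theorem Mf_neg : ∀ σ : Equiv.Perm (Fin 4), ¬ (∀ i j, Mf σ i j = if i = j then -1 else 0) := by
  decide +kernel

def rv : Fin 6 → Fin 3 → ZMod 3 := fun k j =>
  if k.val / 2 = j.val then (if k.val % 2 = 0 then 1 else -1) else 0

theorem rv_row : ∀ a b c : ZMod 3, a * a + b * b + c * c = 1 →
    ∃ k : Fin 6, rv k 0 = a ∧ rv k 1 = b ∧ rv k 2 = c := by
  decide +kernel

set_option maxRecDepth 100000 in
theorem Mf_surj : ∀ i j k : Fin 6, (rv i 0 * rv j 0 + rv i 1 * rv j 1 + rv i 2 * rv j 2 = 0) →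
    (rv i 0 * rv k 0 + rv i 1 * rv k 1 + rv i 2 * rv k 2 = 0) →
    (rv j 0 * rv k 0 + rv j 1 * rv k 1 + rv j 2 * rv k 2 = 0) →
    ∃ σ : Equiv.Perm (Fin 4),
      (∀ a, Mf σ 0 a = rv i a ∧ Mf σ 1 a = rv j a ∧ Mf σ 2 a = rv k a) ∨
      (∀ a, Mf σ 0 a = - rv i a ∧ Mf σ 1 a = - rv j a ∧ Mf σ 2 a = - rv k a) := by
  (set_option synthInstance.maxSize 9000 in open scoped Cfsg.Agent.Lib.FastPerm in decide +kernel)

/-- The representation of `S₄` in dimension three, over `ZMod 3`. -/
def MM (σ : Equiv.Perm (Fin 4)) : Matrix (Fin 3) (Fin 3) (ZMod 3) := Matrix.of fun i j => Mf σ i j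

theorem MM_mul (σ τ : Equiv.Perm (Fin 4)) : MM (σ * τ) = MM σ * MM τ := by
  ext i j
  rw [Matrix.mul_apply]
  exact Mf_mul σ τ i j

theorem MM_orth (σ : Equiv.Perm (Fin 4)) : MM σ * (MM σ)ᵀ = 1 := by
  ext i j
  rw [Matrix.mul_apply, Fin.sum_univ_three, Matrix.one_apply]
  exact Mf_orth σ i j

theorem MM_det (σ : Equiv.Perm (Fin 4)) : (MM σ).det * (MM σ).det = 1 := by
  have h := congrArg Matrix.det (MM_orth σ)
  rwa [det_mul, det_transpose, det_one] at h

theorem MM_smul_det (σ : Equiv.Perm (Fin 4)) : ((MM σ).det • MM σ).det = 1 := by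
  rw [det_smul, Fintype.card_fin]
  have h := MM_det σ
  calc (MM σ).det ^ 3 * (MM σ).det = ((MM σ).det * (MM σ).det) * ((MM σ).det * (MM σ).det) := by
        simp only [pow_succ, pow_zero, one_mul, mul_assoc]
    _ = 1 := by rw [h, one_mul]

def FF : Equiv.Perm (Fin 4) →* S where
  toFun σ := ⟨(MM σ).det • MM σ, MM_smul_det σ⟩
  map_one' := by
    have h1 : MM 1 * MM 1 = MM 1 := by rw [← MM_mul, one_mul]
    have h2 : MM 1 = 1 := by
      have h3 : MM 1 * (MM 1 * (MM 1)ᵀ) = MM 1 * (MM 1)ᵀ := by rw [← mul_assoc, h1]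
      rwa [MM_orth, mul_one] at h3
    apply Subtype.ext
    change (MM 1).det • MM 1 = 1
    rw [h2, det_one, one_smul]
  map_mul' σ τ := by
    apply Subtype.ext
    change (MM (σ * τ)).det • MM (σ * τ) = ((MM σ).det • MM σ) * ((MM τ).det • MM τ)
    rw [MM_mul, det_mul, Matrix.smul_mul, Matrix.mul_smul, smul_smul]

theorem coe_FF (σ : Equiv.Perm (Fin 4)) : (FF σ : S).1 = (MM σ).det • MM σ := rfl

theorem det_cases (σ : Equiv.Perm (Fin 4)) : (MM σ).det = 1 ∨ (MM σ).det = -1 := by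
  have h : ∀ a : ZMod 3, a * a = 1 → a = 1 ∨ a = -1 := by decide
  exact h _ (MM_det σ)

theorem FF_injective : Function.Injective FF := by
  rw [injective_iff_map_eq_one]
  intro σ h
  have h1 : (MM σ).det • MM σ = 1 := congrArg Subtype.val h
  rcases det_cases σ with h2 | h2
  · rw [h2, one_smul] at h1
    apply Mf_inj
    intro i j
    rw [← Matrix.one_apply, ← h1]
    rfl
  · exfalso
    rw [h2, neg_smul, one_smul] at h1
    have h3 : MM σ = -1 := by rw [← h1, neg_neg]
    apply Mf_neg σ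
    intro i j
    have h4 : Mf σ i j = (-1 : Matrix (Fin 3) (Fin 3) (ZMod 3)) i j := by rw [← h3]; rfl
    rw [h4, Matrix.neg_apply, Matrix.one_apply]
    split_ifs
    · rfl
    · exact neg_zero

theorem range_FF : FF.range = _root_.Cfsg.Agent.GH.L3S.Defs.Fix (itr : MulAut S) := by
  apply le_antisymm
  · rintro _ ⟨σ, rfl⟩
    rw [mem_fix_itr, coe_FF, transpose_smul, Matrix.smul_mul, Matrix.mul_smul, MM_orth, smul_smul,
      MM_det, one_smul]
  · intro y hy
    rw [mem_fix_itr] at hy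
    have h1 : ∀ i j, y.1 i 0 * y.1 j 0 + y.1 i 1 * y.1 j 1 + y.1 i 2 * y.1 j 2 =
        if i = j then 1 else 0 := by
      intro i j
      have h2 := congrFun (congrFun hy i) j
      rw [Matrix.mul_apply, Fin.sum_univ_three, Matrix.one_apply] at h2
      exact h2
    obtain ⟨i, hi0, hi1, hi2⟩ := rv_row _ _ _ (by simpa only [_root_.Fin.isValue, ↓ _root_.reduceIte] using h1 0 0)
    obtain ⟨j, hj0, hj1, hj2⟩ := rv_row _ _ _ (by simpa only [_root_.Fin.isValue, ↓ _root_.reduceIte] using h1 1 1)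
    obtain ⟨k, hk0, hk1, hk2⟩ := rv_row _ _ _ (by simpa only [_root_.Fin.isValue, ↓ _root_.reduceIte] using h1 2 2)
    have hi : ∀ a, y.1 0 a = rv i a := by
      intro a; fin_cases a
      · exact hi0.symm
      · exact hi1.symm
      · exact hi2.symm
    have hj : ∀ a, y.1 1 a = rv j a := by
      intro a; fin_cases a
      · exact hj0.symm
      · exact hj1.symm
      · exact hj2.symm
    have hk : ∀ a, y.1 2 a = rv k a := by
      intro a; fin_cases a
      · exact hk0.symm
      · exact hk1.symm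
      · exact hk2.symm
    have e01 := h1 0 1
    have e02 := h1 0 2
    have e12 := h1 1 2
    rw [if_neg (by decide)] at e01 e02 e12
    simp only [hi, hj, hk] at e01 e02 e12
    obtain ⟨σ, h | h⟩ := Mf_surj i j k e01 e02 e12
    · have h3 : MM σ = y.1 := by
        ext a b
        fin_cases a
        · exact (h b).1.trans (hi b).symm
        · exact (h b).2.1.trans (hj b).symm
        · exact (h b).2.2.trans (hk b).symm
      refine ⟨σ, Subtype.ext ?_⟩
      rw [coe_FF, h3, y.2, one_smul]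
    · have h3 : MM σ = - y.1 := by
        ext a b
        fin_cases a
        · exact (h b).1.trans (by rw [← hi b]; rfl)
        · exact (h b).2.1.trans (by rw [← hj b]; rfl)
        · exact (h b).2.2.trans (by rw [← hk b]; rfl)
      refine ⟨σ, Subtype.ext ?_⟩
      have h4 : (-y.1).det = -1 := by
        rw [Matrix.det_neg, Fintype.card_fin, y.2]
        decide
      rw [coe_FF, h3, h4, neg_smul, one_smul, neg_neg]

/-! ### the theorem -/

theorem sdf_S : SDF S where
  conj x y hx hy := by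
    obtain ⟨Q, rfl⟩ := exists_conj_z hx
    obtain ⟨R, rfl⟩ := exists_conj_z hy
    rw [isConj_iff]
    exact ⟨R * Q⁻¹, by group⟩
  gl x hx := by
    obtain ⟨Q, rfl⟩ := exists_conj_z hx
    have h1 : Function.Injective (((MulAut.conj Q).toMonoidHom.comp emb : GL (Fin 2) (ZMod 3) →* S)) :=
      (MulAut.conj Q).injective.comp emb_injective
    have h2 : ((MulAut.conj Q).toMonoidHom.comp emb : GL (Fin 2) (ZMod 3) →* S).range =
        centralizer ({Q * z * Q⁻¹} : Set S) := by
      rw [MonoidHom.range_comp, range_emb]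
      ext y
      rw [mem_centralizer_singleton_iff]
      constructor
      · rintro ⟨w, hw, rfl⟩
        have hw' := mem_centralizer_singleton_iff.mp hw
        change Q * w * Q⁻¹ * (Q * z * Q⁻¹) = Q * z * Q⁻¹ * (Q * w * Q⁻¹)
        calc Q * w * Q⁻¹ * (Q * z * Q⁻¹) = Q * (w * z) * Q⁻¹ := by group
          _ = Q * (z * w) * Q⁻¹ := by rw [hw']
          _ = _ := by group
      · intro h
        refine ⟨Q⁻¹ * y * Q, ?_, ?_⟩
        · apply mem_centralizer_singleton_iff.mpr
          calc Q⁻¹ * y * Q * z = Q⁻¹ * (y * (Q * z * Q⁻¹)) * Q := by group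
            _ = Q⁻¹ * (Q * z * Q⁻¹ * y) * Q := by rw [h]
            _ = _ := by group
        · change Q * (Q⁻¹ * y * Q) * Q⁻¹ = y
          group
    exact ⟨((MonoidHom.ofInjective h1).trans (MulEquiv.subgroupCongr h2)).symm⟩
  cent x hx α hα := by
    obtain ⟨Q, rfl⟩ := exists_conj_z hx
    have h1 := cent_z ((MulAut.conj Q)⁻¹ * α * MulAut.conj Q) (fun y hy => by
      rw [MulAut.mul_apply, MulAut.mul_apply, hα]
      · exact (MulAut.conj Q).symm_apply_apply y
      · rw [MulAut.conj_apply]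
        calc Q * y * Q⁻¹ * (Q * z * Q⁻¹) = Q * (y * z) * Q⁻¹ := by group
          _ = Q * (z * y) * Q⁻¹ := by rw [hy]
          _ = _ := by group)
    have h2 : α = MulAut.conj Q * ((MulAut.conj Q)⁻¹ * α * MulAut.conj Q) * (MulAut.conj Q)⁻¹ := by
      group
    rcases h1 with h1 | h1
    · left
      rw [h2, h1, mul_one, mul_inv_cancel]
    · right
      rw [h2, h1, map_mul, map_mul, map_inv]
  out α β hα hβ := by
    rcases aut_cases α with ⟨P, rfl⟩ | ⟨P, rfl⟩
    · exact absurd ⟨P, rfl⟩ hα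
    · rcases aut_cases β with ⟨Q, rfl⟩ | ⟨Q, rfl⟩
      · exact absurd ⟨Q, rfl⟩ hβ
      · refine ⟨P * itr Q, ?_⟩
        calc MulAut.conj P * itr * (MulAut.conj Q * itr)
            = MulAut.conj P * (itr * MulAut.conj Q) * itr := by simp only [mul_assoc]
          _ = MulAut.conj P * MulAut.conj (itr Q) * (itr * itr) := by
            rw [itr_mul_conj]; simp only [mul_assoc]
          _ = MulAut.conj (P * itr Q) := by rw [itr_mul_itr, mul_one, map_mul]
  s4 α hα hn := by
    obtain ⟨l, hl⟩ := exists_conj_itr hα hn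
    have h1 : (_root_.Cfsg.Agent.GH.L3S.Defs.Fix α).map (MulAut.conj l).toMonoidHom = _root_.Cfsg.Agent.GH.L3S.Defs.Fix (itr : MulAut S) := by
      rw [← hl]
      ext y
      constructor
      · rintro ⟨w, hw, rfl⟩
        have hw' : α w = w := hw
        change (MulAut.conj l * α * (MulAut.conj l)⁻¹) (MulAut.conj l w) = MulAut.conj l w
        rw [MulAut.mul_apply, MulAut.mul_apply]
        have h2 : (MulAut.conj l)⁻¹ (MulAut.conj l w) = w := (MulAut.conj l).symm_apply_apply w
        rw [h2, hw']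
      · intro hy
        have hy' : (MulAut.conj l * α * (MulAut.conj l)⁻¹) y = y := hy
        rw [MulAut.mul_apply, MulAut.mul_apply] at hy'
        refine ⟨(MulAut.conj l)⁻¹ y, ?_, (MulAut.conj l).apply_symm_apply y⟩
        change α ((MulAut.conj l)⁻¹ y) = (MulAut.conj l)⁻¹ y
        apply (MulAut.conj l).injective
        rw [hy']
        exact ((MulAut.conj l).apply_symm_apply y).symm
    have e1 : ↥(_root_.Cfsg.Agent.GH.L3S.Defs.Fix α) ≃* ↥(_root_.Cfsg.Agent.GH.L3S.Defs.Fix (itr : MulAut S)) :=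
      ((MulAut.conj l).subgroupMap (_root_.Cfsg.Agent.GH.L3S.Defs.Fix α)).trans (MulEquiv.subgroupCongr h1)
    exact ⟨e1.trans ((MonoidHom.ofInjective FF_injective).trans
      (MulEquiv.subgroupCongr range_FF)).symm⟩
  outConj α β hα hβ hnα hnβ := by
    obtain ⟨l, hl⟩ := exists_conj_itr hα hnα
    obtain ⟨m, hm⟩ := exists_conj_itr hβ hnβ
    refine ⟨m⁻¹ * l, ?_⟩
    rw [map_mul, map_inv]
    have h1 : β = (MulAut.conj m)⁻¹ * (MulAut.conj m * β * (MulAut.conj m)⁻¹) * MulAut.conj m := by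
      group
    rw [h1, hm, ← hl]
    group
  outCent α hα hn β hβ := by
    obtain ⟨l, hl⟩ := exists_conj_itr hα hn
    have h1 := cent_itr (MulAut.conj l * β * (MulAut.conj l)⁻¹) (fun y hy => by
      rw [← hl, MulAut.mul_apply, MulAut.mul_apply] at hy
      rw [MulAut.mul_apply, MulAut.mul_apply, hβ]
      · exact (MulAut.conj l).apply_symm_apply y
      · apply (MulAut.conj l).injective
        rw [hy]
        exact ((MulAut.conj l).apply_symm_apply y).symm)
    have h2 : β = (MulAut.conj l)⁻¹ * (MulAut.conj l * β * (MulAut.conj l)⁻¹) * MulAut.conj l := by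
      group
    rcases h1 with h1 | h1
    · left
      rw [h2, h1, mul_one, inv_mul_cancel]
    · right
      rw [h2, h1, ← hl]
      group

/-- `SL_n` over isomorphic fields. -/
def slEquiv {n : ℕ} {F F' : Type*} [Field F] [Field F'] (e : F ≃+* F') :
    Matrix.SpecialLinearGroup (Fin n) F ≃* Matrix.SpecialLinearGroup (Fin n) F' where
  toFun g := Matrix.SpecialLinearGroup.map (e : F →+* F') g
  invFun g := Matrix.SpecialLinearGroup.map (e.symm : F' →+* F) g
  left_inv g := by
    apply Subtype.ext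
    ext i j
    exact e.symm_apply_apply _
  right_inv g := by
    apply Subtype.ext
    ext i j
    exact e.apply_symm_apply _
  map_mul' g h := map_mul _ g h

/-- **`PSL₃(3)` satisfies `SDF`.** -/
theorem sdf_l33 {L F : Type*} [Group L] [Field F] [Fintype F] (hF : Fintype.card F = 3)
    (e : L ≃* Matrix.ProjectiveSpecialLinearGroup (Fin 3) F) : SDF L := by
  have e0 : ZMod 3 ≃+* F := ZMod.ringEquivOfPrime F Nat.prime_three hF
  have e1 : Matrix.SpecialLinearGroup (Fin 3) F ≃* S := (slEquiv e0).symm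
  have hc : ∀ g : Matrix.SpecialLinearGroup (Fin 3) F, g ∈ Subgroup.center _ → g = 1 := by
    intro g hg
    apply e1.injective
    rw [map_one]
    apply eq_one_of_center
    intro k
    have h1 := Subgroup.mem_center_iff.mp hg (e1.symm k)
    apply e1.symm.injective
    rw [map_mul, map_mul, e1.symm_apply_apply]
    exact h1.symm
  have h2 : Function.Bijective (pr : Matrix.SpecialLinearGroup (Fin 3) F → _) := by
    refine ⟨fun a b h => ?_, pr_surjective⟩
    have h1 : a⁻¹ * b ∈ Subgroup.center (Matrix.SpecialLinearGroup (Fin 3) F) :=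
      QuotientGroup.eq.mp h
    exact inv_mul_eq_one.mp (hc _ h1)
  have e2 : Matrix.SpecialLinearGroup (Fin 3) F ≃* Matrix.ProjectiveSpecialLinearGroup (Fin 3) F :=
    MulEquiv.ofBijective pr h2
  exact SDF.of_equiv (e.trans (e2.symm.trans e1)) sdf_S

end Cfsg.Agent.GH.L3S.ModelL33
end
end
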